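import Mathlib.GroupTheory.Transfer
import Mathlib.GroupTheory.Sylow
import Mathlib.GroupTheory.Solvable
import Mathlib.LinearAlgebra.Determinant
import Mathlib.LinearAlgebra.FiniteDimensional.Basic
import Mathlib.Algebra.CharP.Algebra
import Mathlib.GroupTheory.Nilpotent
import Mathlib.Algebra.Field.ZMod
import Mathlib.LinearAlgebra.FiniteDimensional.Lemmas

/-!
# Linear groups all of whose orbits have prime-power size: basic facts
-/

set_option autoImplicit false

namespace Cfsg.Agent.Lib.PowerOrbits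

open MulAction

universe u

variable {q : ℕ} {V : Type u} [AddCommGroup V] [Module (ZMod q) V]

/-- All orbits of `H` have `p`-power size. -/
def PowOrbits (p : ℕ) (H : Subgroup (V ≃ₗ[ZMod q] V)) : Prop :=
  ∀ v : V, ∃ n : ℕ, (stabilizer ↥H v).index = p ^ n

/-- A Sylow `p`-subgroup has the same orbits. -/
theorem exists_sylow_apply_eq {p : ℕ} [Fact p.Prime] {H : Subgroup (V ≃ₗ[ZMod q] V)} [Finite ↥H]
    (hH : PowOrbits p H) (P : Sylow p ↥H) (g : ↥H) (v : V) :
    ∃ w ∈ (P : Subgroup ↥H), g • v = w • v := by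
  obtain ⟨n, hn⟩ := hH v
  set C := stabilizer ↥H v with hC
  have hP : stabilizer ↥(P : Subgroup ↥H) v = C.subgroupOf (P : Subgroup ↥H) := by
    ext w; rfl
  obtain ⟨a, ha⟩ := IsPGroup.iff_card.mp P.isPGroup'
  have hrel : C.relIndex (P : Subgroup ↥H) ∣ p ^ a := ha ▸ Subgroup.index_dvd_card _
  obtain ⟨b, -, hb⟩ := (Nat.dvd_prime_pow (Fact.out : p.Prime)).mp hrel
  have hfac : a = (Nat.card ↥H).factorization p := by
    have := P.card_eq_multiplicity
    rw [ha] at this
    exact Nat.pow_right_injective (Fact.out : p.Prime).two_le this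
  have hnb : n ≤ b := by
    have h1 := (C.subgroupOf (P : Subgroup ↥H)).card_mul_index
    have h2 : Nat.card ↥(C.subgroupOf (P : Subgroup ↥H)) ∣ Nat.card ↥C := by
      rw [← Subgroup.card_map_of_injective (P : Subgroup ↥H).subtype_injective,
        Subgroup.subgroupOf_map_subtype]
      exact Subgroup.card_dvd_of_le inf_le_left
    rw [← Subgroup.relIndex, hb] at h1
    have h3 : p ^ a * p ^ n ∣ Nat.card ↥H * p ^ b := by
      rw [← C.card_mul_index, hn, ← ha, ← h1]
      obtain ⟨c, hc⟩ := h2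
      rw [hc]
      exact ⟨c, by ring⟩
    have h4 := (Nat.Prime.pow_dvd_iff_le_factorization (Fact.out : p.Prime)
      (mul_ne_zero Nat.card_pos.ne' (pow_ne_zero _ (Fact.out : p.Prime).ne_zero))).mp
        (by rw [← pow_add] at h3; exact h3)
    rw [Nat.factorization_mul Nat.card_pos.ne' (pow_ne_zero _ (Fact.out : p.Prime).ne_zero),
      Nat.Prime.factorization_pow (Fact.out : p.Prime), Finsupp.add_apply,
      Finsupp.single_eq_same, ← hfac] at h4
    omega
  have hsub : orbit ↥(P : Subgroup ↥H) v ⊆ orbit ↥H v := by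
    rintro _ ⟨w, rfl⟩
    exact ⟨(w : ↥H), rfl⟩
  have hfin : (orbit ↥H v).Finite := Set.finite_range _
  have heq : orbit ↥(P : Subgroup ↥H) v = orbit ↥H v := by
    refine Set.eq_of_subset_of_ncard_le hsub ?_ hfin
    rw [← index_stabilizer, ← index_stabilizer, hn, hP, ← Subgroup.relIndex, hb]
    exact Nat.pow_le_pow_right (Fact.out : p.Prime).pos hnb
  have hg : g • v ∈ orbit ↥(P : Subgroup ↥H) v := heq ▸ ⟨g, rfl⟩
  obtain ⟨w, hw⟩ := hg
  exact ⟨w, w.2, hw.symm⟩

/-! ### Perfect groups -/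

theorem hom_eq_one_of_perfect {H : Type*} [Group H] (hperf : commutator H = ⊤) {T : Type*}
    [Group T] [Group.IsSolvable T] (f : H →* T) : f = 1 := by
  have hd : ∀ n, derivedSeries H n = ⊤ := by
    intro n
    induction n with
    | zero => rfl
    | succ n ih => rw [derivedSeries_succ, ih]; exact hperf
  obtain ⟨n, hn⟩ := (inferInstance : Group.IsSolvable T)
  have h := map_derivedSeries_le_derivedSeries f n
  rw [hd, hn, le_bot_iff, Subgroup.map_eq_bot_iff, top_le_iff] at h
  exact MonoidHom.ext fun x => MonoidHom.mem_ker.mp (h ▸ Subgroup.mem_top x)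

/-- A perfect group with an abelian Sylow subgroup has no central `p`-elements. -/
theorem central_sylow_eq_one {H : Type*} [Group H] [Finite H] (hperf : commutator H = ⊤) {p : ℕ}
    [Fact p.Prime] (P : Sylow p H) [IsMulCommutative ↥(P : Subgroup H)] {z : H}
    (hz : z ∈ Subgroup.center H) (hzP : z ∈ (P : Subgroup H)) : z = 1 := by
  have key : ∀ (k : ℕ) (g₀ : H), g₀⁻¹ * z ^ k * g₀ ∈ (P : Subgroup H) →
      g₀⁻¹ * z ^ k * g₀ = z ^ k := by
    intro k g₀ _
    rw [mul_assoc, ← Subgroup.mem_center_iff.mp (pow_mem hz k) g₀, inv_mul_cancel_left]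
  let _ : CommGroup ↥(P : Subgroup H) :=
    { (inferInstance : Group ↥(P : Subgroup H)) with
      mul_comm := fun a b => mul_comm' a b }
  have h1 := MonoidHom.transfer_eq_pow (MonoidHom.id ↥(P : Subgroup H)) z key
  rw [hom_eq_one_of_perfect hperf (MonoidHom.transfer (MonoidHom.id ↥(P : Subgroup H)))] at h1
  have h2 : z ^ (P : Subgroup H).index = 1 := by
    simpa using (congrArg Subtype.val h1).symm
  obtain ⟨k, hk⟩ := P.isPGroup' ⟨z, hzP⟩
  have hk' : z ^ p ^ k = 1 := by simpa using congrArg Subtype.val hk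
  have hco : Nat.Coprime (P : Subgroup H).index (p ^ k) :=
    (((Fact.out : p.Prime).coprime_iff_not_dvd).mpr P.not_dvd_index).symm.pow_right k
  have h5 := pow_gcd_eq_one.mpr ⟨h2, hk'⟩
  rwa [hco, pow_one] at h5

/-! ### Dimension at most two -/

theorem pow_char_eq_one_of_sq {q : ℕ} [Fact q.Prime] {W : Type*} [AddCommGroup W]
    [Module (ZMod q) W] (g : W ≃ₗ[ZMod q] W)
    (h : ∀ x : W, g (g x - x) = g x - x) : g ^ q = 1 := by
  have hk : ∀ (n : ℕ) (x : W), (g ^ n) x = x + n • (g x - x) := by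
    intro n
    induction n with
    | zero => intro x; simp
    | succ n ih =>
      intro x
      rw [pow_succ', LinearEquiv.mul_apply, ih, map_add, map_nsmul, h, succ_nsmul]
      abel
  refine LinearEquiv.ext fun x => ?_
  rw [hk, ← Nat.cast_smul_eq_nsmul (ZMod q), ZMod.natCast_self, zero_smul, add_zero]
  rfl

/-- A perfect coprime linear group of dimension at most two with prime-power orbits is solvable. -/
theorem isSolvable_of_finrank_le_two [Fact q.Prime] [Finite V]
    (hdim : Module.finrank (ZMod q) V ≤ 2) {H : Subgroup (V ≃ₗ[ZMod q] V)} [Finite ↥H]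
    (hq : ¬ q ∣ Nat.card ↥H) (hH : PowOrbits 2 H) (hperf : commutator ↥H = ⊤) :
    Group.IsSolvable ↥H := by
  have : Module.Finite (ZMod q) V := Module.Finite.of_finite
  have hdet : ∀ g : ↥H, LinearMap.det ((g : V ≃ₗ[ZMod q] V) : V →ₗ[ZMod q] V) = 1 := by
    intro g
    have h1 : (LinearEquiv.det.comp H.subtype) g = (1 : (ZMod q)ˣ) :=
      DFunLike.congr_fun (hom_eq_one_of_perfect hperf (LinearEquiv.det.comp H.subtype)) g
    have h2 := congrArg Units.val h1
    simpa using h2
  haveI : Fact (Nat.Prime 2) := ⟨Nat.prime_two⟩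
  suffices h2 : IsPGroup 2 ↥H by
    haveI := h2.isNilpotent
    infer_instance
  -- every element of odd prime order is trivial
  have key : ∀ (s : ℕ), s.Prime → s ≠ 2 → ∀ g : ↥H, g ^ s = 1 → g = 1 := by
    intro s hs hs2 g hgs
    rcases subsingleton_or_nontrivial V with hV | hV
    · exact Subtype.ext (LinearEquiv.ext fun x => Subsingleton.elim _ _)
    haveI := Fact.mk hs
    obtain ⟨v, hv⟩ := exists_ne (0 : V)
    obtain ⟨n, hn⟩ := hH v
    have hpz : IsPGroup s ↥(Subgroup.zpowers g) := fun y => ⟨1, by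
      obtain ⟨y, hy⟩ := y
      obtain ⟨i, rfl⟩ := Subgroup.mem_zpowers_iff.mp hy
      apply Subtype.ext
      show (g ^ i) ^ s ^ 1 = 1
      rw [pow_one, ← zpow_natCast (g ^ i), ← zpow_mul, mul_comm, zpow_mul, zpow_natCast, hgs,
        one_zpow]⟩
    obtain ⟨R, hR⟩ := hpz.exists_le_sylow
    obtain ⟨R₀⟩ : Nonempty (Sylow s ↥(stabilizer ↥H v)) := inferInstance
    have hns : ¬ s ∣ (stabilizer ↥H v).index := by
      rw [hn]
      exact fun h => hs2 ((Nat.prime_dvd_prime_iff_eq hs Nat.prime_two).mp (hs.dvd_of_dvd_pow h))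
    set R₁ : Subgroup ↥H := (R₀ : Subgroup ↥(stabilizer ↥H v)).map (stabilizer ↥H v).subtype
    have hR₁i : ¬ s ∣ R₁.index := by
      rw [Subgroup.index_map_subtype]
      exact hs.not_dvd_mul R₀.not_dvd_index hns
    obtain ⟨S₁, hS₁⟩ := (R₀.isPGroup'.map (stabilizer ↥H v).subtype).exists_le_sylow
    have heq : R₁ = (S₁ : Subgroup ↥H) := by
      refine le_antisymm hS₁ (Subgroup.relIndex_eq_one.mp ?_)
      obtain ⟨j, hj⟩ := IsPGroup.iff_card.mp S₁.isPGroup'
      obtain ⟨i, -, hi⟩ := (Nat.dvd_prime_pow hs).mp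
        (hj ▸ (Subgroup.index_dvd_card (R₁.subgroupOf (S₁ : Subgroup ↥H))))
      rcases Nat.eq_zero_or_pos i with rfl | hi0
      · simpa [Subgroup.relIndex] using hi
      · refine absurd ?_ hR₁i
        rw [← Subgroup.relIndex_mul_index hS₁, Subgroup.relIndex, hi]
        exact (dvd_pow_self s hi0.ne').mul_right _
    obtain ⟨c, hc⟩ := MulAction.exists_smul_eq ↥H R S₁
    have hgv : c * g * c⁻¹ ∈ stabilizer ↥H v := by
      have h1 : c * g * c⁻¹ ∈ (S₁ : Subgroup ↥H) := by
        rw [← hc, Sylow.coe_subgroup_smul, Subgroup.mem_pointwise_smul_iff_inv_smul_mem]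
        simpa [MulAut.smul_def, mul_assoc] using hR (Subgroup.mem_zpowers g)
      rw [← heq] at h1
      exact Subgroup.map_subtype_le _ h1
    have hfix : (c * g * c⁻¹) • v = v := hgv
    -- a fixed vector and determinant one give a unipotent element
    set G₀ : V ≃ₗ[ZMod q] V := ((c * g * c⁻¹ : ↥H) : V ≃ₗ[ZMod q] V) with hG₀
    have hv1 : G₀ v = v := hfix
    have hq1 : G₀ ^ q = 1 := by
      rcases Nat.lt_or_ge (Module.finrank (ZMod q) V) 2 with hlt | hge
      · have h1 : Module.finrank (ZMod q) V = 1 := by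
          have : 0 < Module.finrank (ZMod q) V := Module.finrank_pos
          omega
        have h2 : ∀ x, G₀ x = x := fun x => by
          obtain ⟨r, rfl⟩ := (finrank_eq_one_iff_of_nonzero' v hv).mp h1 x
          rw [map_smul, hv1]
        exact pow_char_eq_one_of_sq G₀ fun x => by simp [h2]
      · have h2 : Module.finrank (ZMod q) V = 2 := le_antisymm hdim hge
        obtain ⟨w, hw⟩ := exists_linearIndependent_pair_of_one_lt_finrank
          (R := ZMod q) (by omega : 1 < Module.finrank (ZMod q) V) hv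
        let b := basisOfLinearIndependentOfCardEqFinrank hw (by simp [h2])
        have hb0 : b 0 = v := by simp [b]
        have hd : (LinearMap.toMatrix b b (G₀ : V →ₗ[ZMod q] V)).det = 1 := by
          rw [LinearMap.det_toMatrix]; exact hdet _
        have h00 : LinearMap.toMatrix b b (G₀ : V →ₗ[ZMod q] V) 0 0 = 1 := by
          rw [LinearMap.toMatrix_apply, LinearEquiv.coe_coe, hb0, hv1, ← hb0, Module.Basis.repr_self,
            Finsupp.single_eq_same]
        have h10 : LinearMap.toMatrix b b (G₀ : V →ₗ[ZMod q] V) 1 0 = 0 := by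
          rw [LinearMap.toMatrix_apply, LinearEquiv.coe_coe, hb0, hv1, ← hb0, Module.Basis.repr_self,
            Finsupp.single_eq_of_ne (by decide)]
        rw [Matrix.det_fin_two, h00, h10, one_mul, mul_zero, sub_zero] at hd
        have hG1 : G₀ (b 1) - b 1 = (LinearMap.toMatrix b b (G₀ : V →ₗ[ZMod q] V) 0 1) • v := by
          have h3 := b.sum_repr (G₀ (b 1))
          rw [Fin.sum_univ_two] at h3
          conv_lhs => rw [← h3]
          rw [LinearMap.toMatrix_apply] at hd
          rw [LinearEquiv.coe_coe] at hd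
          rw [hd, one_smul, add_sub_cancel_right, LinearMap.toMatrix_apply, LinearEquiv.coe_coe, hb0]
        refine pow_char_eq_one_of_sq G₀ fun x => ?_
        have h3 := b.sum_repr x
        rw [Fin.sum_univ_two] at h3
        have h4 : G₀ x - x = b.repr x 1 • (G₀ (b 1) - b 1) := by
          conv_lhs => rw [← h3]
          rw [map_add, map_smul, map_smul, hb0, hv1, smul_sub]
          abel
        rw [h4, hG1, map_smul, map_smul, hv1]
    have hq2 : (c * g * c⁻¹) ^ q = 1 := Subtype.ext (by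
      rw [Subgroup.coe_pow]; exact hq1)
    have hcop : Nat.Coprime q (orderOf (c * g * c⁻¹)) :=
      ((Fact.out : q.Prime).coprime_iff_not_dvd).mpr fun h => hq (h.trans (orderOf_dvd_natCard _))
    have h3 : orderOf (c * g * c⁻¹) = 1 := by
      have h4 := orderOf_dvd_of_pow_eq_one hq2
      exact Nat.eq_one_of_dvd_coprimes hcop h4 dvd_rfl
    rw [orderOf_eq_one_iff, conj_eq_one_iff] at h3
    exact h3
  intro g
  obtain ⟨k, m, hodd, hm⟩ := Nat.exists_eq_two_pow_mul_odd (orderOf_pos g).ne'
  refine ⟨k, ?_⟩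
  by_contra hne
  have hord : orderOf (g ^ 2 ^ k) = m := by
    rw [orderOf_pow_of_dvd (pow_ne_zero _ two_ne_zero) (hm ▸ dvd_mul_right _ _), hm,
      Nat.mul_div_cancel_left _ (Nat.two_pow_pos k)]
  have hm1 : m ≠ 1 := fun h => hne (orderOf_eq_one_iff.mp (hord.trans h))
  have hs := Nat.minFac_prime hm1
  have hs2 : m.minFac ≠ 2 := fun h => by
    have := Nat.minFac_dvd m
    rw [h] at this
    exact (Nat.not_even_iff_odd.mpr hodd) (even_iff_two_dvd.mpr this)
  have h5 : (g ^ 2 ^ k) ^ (m / m.minFac) = 1 := by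
    refine key _ hs hs2 _ ?_
    rw [← pow_mul (g ^ 2 ^ k), Nat.div_mul_cancel (Nat.minFac_dvd m), ← hord, pow_orderOf_eq_one]
  have h6 := orderOf_dvd_of_pow_eq_one h5
  rw [hord] at h6
  have hmpos : 0 < m := Nat.odd_iff.mp hodd |> fun h => by omega
  have h7 := Nat.le_of_dvd (Nat.div_pos (Nat.minFac_le hmpos) hs.pos) h6
  exact absurd h7 (not_le.mpr (Nat.div_lt_self hmpos hs.one_lt))

end Cfsg.Agent.Lib.PowerOrbits
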