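import Cfsg.Agent.Lib.Cores.PCore
import Cfsg.Agent.Lib.PGroups.Subnormal
import Mathlib.GroupTheory.GroupAction.ConjAct
import Mathlib.GroupTheory.Sylow
import Mathlib.GroupTheory.Index
import Mathlib.GroupTheory.SchurZassenhaus

/-!
# Class sizes of prime-power order elements: basic facts
-/

set_option autoImplicit false

namespace Cfsg.Agent.Lib.PowerOrbits.Baer

open MulAction Subgroup

variable {G : Type*} [Group G]

theorem mem_centralizer_iff' {x c : G} : c ∈ centralizer ({x} : Set G) ↔ c * x * c⁻¹ = x := by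
  rw [mem_centralizer_singleton_iff, mul_inv_eq_iff_eq_mul]

theorem stabilizer_mk_one (A B : Subgroup G) :
    stabilizer ↥A ((1 : G) : G ⧸ B) = B.subgroupOf A := by
  ext a
  rw [mem_stabilizer_iff, show a • ((1 : G) : G ⧸ B) = ((a : G) : G ⧸ B) from
    congrArg QuotientGroup.mk (mul_one (a : G)), QuotientGroup.eq, mul_one, inv_mem_iff,
    mem_subgroupOf]

variable [Finite G]

/-- Subgroups of coprime index multiply to the whole group. -/
theorem exists_mul_of_coprime_index {A B : Subgroup G} (h : A.index.Coprime B.index) (g : G) :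
    ∃ a ∈ A, ∃ b ∈ B, g = a * b := by
  have h1 : B.index ∣ B.relIndex A := by
    have e : B.relIndex A * A.index = (A ⊓ B).index := by
      rw [← inf_relIndex_left A B]
      exact relIndex_mul_index inf_le_left
    refine h.symm.dvd_of_dvd_mul_right ?_
    rw [e]
    exact index_dvd_of_le inf_le_right
  have h2 : (orbit ↥A ((1 : G) : G ⧸ B)) = Set.univ := by
    refine Set.eq_of_subset_of_ncard_le (Set.subset_univ _) ?_ Set.finite_univ
    rw [← index_stabilizer, stabilizer_mk_one, Set.ncard_univ]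
    have hne : B.relIndex A ≠ 0 := index_ne_zero_of_finite
    exact Nat.le_of_dvd (Nat.pos_of_ne_zero hne) h1
  obtain ⟨⟨a, ha⟩, hag⟩ := (Set.eq_univ_iff_forall.mp h2) (g : G ⧸ B)
  refine ⟨a, ha, a⁻¹ * g, ?_, (mul_inv_cancel_left a g).symm⟩
  rw [← QuotientGroup.eq]
  exact (congrArg QuotientGroup.mk (mul_one a)).symm.trans hag

theorem index_inf_eq_mul {A B : Subgroup G} (h : A.index.Coprime B.index) :
    (A ⊓ B).index = A.index * B.index :=
  le_antisymm index_inf_le (Nat.le_of_dvd (Nat.pos_of_ne_zero index_ne_zero_of_finite)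
    (h.mul_dvd_of_dvd_of_dvd (index_dvd_of_le inf_le_left) (index_dvd_of_le inf_le_right)))

/-- If the classes of `u` and `v` have coprime size, `G` is transitive on pairs of conjugates. -/
theorem exists_conj_pair {u v : G}
    (h : (centralizer ({u} : Set G)).index.Coprime (centralizer ({v} : Set G)).index) (g k : G) :
    ∃ t : G, t * u * t⁻¹ = g * u * g⁻¹ ∧ t * v * t⁻¹ = k * v * k⁻¹ := by
  obtain ⟨c, hc, d, hd, he⟩ := exists_mul_of_coprime_index h (g⁻¹ * k)
  rw [mem_centralizer_iff'] at hc hd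
  refine ⟨g * c, ?_, ?_⟩
  · calc g * c * u * (g * c)⁻¹ = g * (c * u * c⁻¹) * g⁻¹ := by group
      _ = g * u * g⁻¹ := by rw [hc]
  · have hk : k = g * c * d := by rw [mul_assoc, ← he, mul_inv_cancel_left]
    rw [hk]
    calc g * c * v * (g * c)⁻¹ = g * c * (d * v * d⁻¹) * (g * c)⁻¹ := by rw [hd]
      _ = g * c * d * v * (g * c * d)⁻¹ := by group

theorem index_centralizer_conj (g x : G) :
    (centralizer ({g * x * g⁻¹} : Set G)).index = (centralizer ({x} : Set G)).index := by
  have : centralizer ({g * x * g⁻¹} : Set G) =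
      (centralizer ({x} : Set G)).map (MulAut.conj g).toMonoidHom := by
    ext c
    rw [mem_map_equiv, mem_centralizer_iff', mem_centralizer_iff', MulAut.conj_symm_apply]
    constructor
    · intro h
      calc g⁻¹ * c * g * x * (g⁻¹ * c * g)⁻¹ = g⁻¹ * (c * (g * x * g⁻¹) * c⁻¹) * g := by group
        _ = x := by rw [h]; group
    · intro h
      calc c * (g * x * g⁻¹) * c⁻¹ = g * (g⁻¹ * c * g * x * (g⁻¹ * c * g)⁻¹) * g⁻¹ := by group
        _ = g * x * g⁻¹ := by rw [h]
  rw [this]
  exact index_map_of_bijective (f := (MulAut.conj g).toMonoidHom) (MulAut.conj g).bijective _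

/-- The size of a conjugacy class. -/
theorem natCard_conjugatesOf (x : G) :
    Nat.card ↥(conjugatesOf x) = (centralizer ({x} : Set G)).index := by
  have h : conjugatesOf x = orbit (ConjAct G) x := by
    ext y
    exact Iff.trans (Iff.rfl : y ∈ conjugatesOf x ↔ IsConj x y)
      (isConj_comm.trans ConjAct.mem_orbit_conjAct.symm)
  have hs : stabilizer (ConjAct G) x =
      (centralizer ({x} : Set G)).comap (ConjAct.ofConjAct (G := G)).toMonoidHom := by
    ext c
    rw [mem_stabilizer_iff, mem_comap, mem_centralizer_iff', ConjAct.smul_def]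
    rfl
  rw [h, Nat.card_coe_set_eq, ← index_stabilizer, hs,
    index_comap_of_surjective _ ConjAct.ofConjAct.surjective]

theorem mem_conjugatesOf' {x y : G} : y ∈ conjugatesOf x ↔ ∃ g : G, g * x * g⁻¹ = y := by
  exact Iff.trans (Iff.rfl : y ∈ conjugatesOf x ↔ IsConj x y) isConj_iff

/-- A subgroup permuting a set by left multiplication has order dividing its size. -/
theorem card_dvd_of_mul_left_invariant (W : Subgroup G) (X : Set G)
    (h : ∀ w ∈ W, ∀ u ∈ X, w * u ∈ X) : Nat.card ↥W ∣ Nat.card ↥X := by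
  have h' : ((↑) : G → G ⧸ W) ⁻¹' (((↑) : G → G ⧸ W) '' (Inv.inv '' X)) = Inv.inv '' X := by
    refine Set.Subset.antisymm ?_ (Set.subset_preimage_image _ _)
    rintro a ⟨_, ⟨u, hu, rfl⟩, hua⟩
    rw [QuotientGroup.eq] at hua
    exact ⟨(u⁻¹⁻¹ * a)⁻¹ * u, h _ (inv_mem hua) u hu, by group⟩
  rw [← Nat.card_image_of_injective inv_injective X, ← h',
    Nat.card_congr (QuotientGroup.preimageMkEquivSubgroupProdSet W _), Nat.card_prod]
  exact dvd_mul_right _ _

/-- A normal subgroup covering a coset space. -/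
theorem index_dvd_card_of_forall {W C : Subgroup G} (h : ∀ g : G, ∃ w ∈ W, w⁻¹ * g ∈ C) :
    C.index ∣ Nat.card ↥W := by
  have h2 : (orbit ↥W ((1 : G) : G ⧸ C)) = Set.univ := by
    refine Set.eq_univ_iff_forall.mpr fun z => ?_
    induction z using QuotientGroup.induction_on with
    | H g =>
      obtain ⟨w, hw, hwg⟩ := h g
      exact ⟨⟨w, hw⟩, (congrArg QuotientGroup.mk (mul_one w)).trans (QuotientGroup.eq.mpr hwg)⟩
  have := index_stabilizer ↥W ((1 : G) : G ⧸ C)
  rw [h2, Set.ncard_univ, stabilizer_mk_one] at this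
  rw [index_eq_card, ← this]
  exact index_dvd_card _

/-! ### Elements of `q`-power order -/

variable {q : ℕ} [hq : Fact q.Prime]

theorem exists_sylow_mem {x : G} (hx : ∃ k : ℕ, orderOf x = q ^ k) :
    ∃ P : Sylow q G, x ∈ (P : Subgroup G) := by
  obtain ⟨k, hk⟩ := hx
  obtain ⟨P, hP⟩ := (IsPGroup.of_card (n := k) (by rw [Nat.card_zpowers, hk]) :
    IsPGroup q ↥(zpowers x)).exists_le_sylow
  exact ⟨P, hP (mem_zpowers x)⟩

theorem exists_orderOf_of_mem {P : Subgroup G} (hP : IsPGroup q ↥P) {x : G} (hx : x ∈ P) :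
    ∃ k : ℕ, orderOf x = q ^ k := by
  obtain ⟨k, hk⟩ := (IsPGroup.iff_orderOf.mp hP) ⟨x, hx⟩
  exact ⟨k, by rw [← hk, Subgroup.orderOf_mk]⟩

theorem exists_orderOf_mul {x y : G} (hxy : Commute x y) (hx : ∃ k : ℕ, orderOf x = q ^ k)
    (hy : ∃ k : ℕ, orderOf y = q ^ k) : ∃ k : ℕ, orderOf (x * y) = q ^ k := by
  obtain ⟨i, hi⟩ := hx
  obtain ⟨j, hj⟩ := hy
  obtain ⟨k, -, hk⟩ := (Nat.dvd_prime_pow hq.out).mp
    ((hxy.orderOf_mul_dvd_mul_orderOf).trans (by rw [hi, hj, ← pow_add]))
  exact ⟨k, hk⟩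

theorem conj_orderOf {x : G} (hx : ∃ k : ℕ, orderOf x = q ^ k) (g : G) :
    ∃ k : ℕ, orderOf (g * x * g⁻¹) = q ^ k := by
  obtain ⟨k, hk⟩ := hx
  exact ⟨k, hk ▸ (MulAut.conj g).orderOf_eq x⟩

/-- A class of `q`-power size puts a `q`-element in `O_q(G)`. -/
theorem mem_pCore_of_index_eq {x : G} (hx : ∃ k : ℕ, orderOf x = q ^ k) {a : ℕ}
    (ha : (centralizer ({x} : Set G)).index = q ^ a) : x ∈ Cfsg.pCore q G := by
  obtain ⟨P, hP⟩ := exists_sylow_mem hx
  have hle : normalClosure ({x} : Set G) ≤ (P : Subgroup G) := by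
    rw [normalClosure, Subgroup.closure_le]
    intro y hy
    rw [Group.mem_conjugatesOfSet_iff] at hy
    obtain ⟨x', hx', hxy⟩ := hy
    rw [Set.mem_singleton_iff] at hx'
    subst x'
    obtain ⟨g, rfl⟩ := isConj_iff.mp hxy
    have hco : (P : Subgroup G).index.Coprime (centralizer ({x} : Set G)).index :=
      ha ▸ ((hq.out.coprime_iff_not_dvd.mpr P.not_dvd_index).symm.pow_right a)
    obtain ⟨u, hu, c, hc, rfl⟩ := exists_mul_of_coprime_index hco g
    rw [mem_centralizer_iff'] at hc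
    show u * c * x * (u * c)⁻¹ ∈ (P : Subgroup G)
    rw [show u * c * x * (u * c)⁻¹ = u * (c * x * c⁻¹) * u⁻¹ by group, hc]
    exact mul_mem (mul_mem hu hP) (inv_mem hu)
  exact Cores.le_pCore normalClosure_normal (P.isPGroup'.to_le hle)
    (subset_normalClosure (Set.mem_singleton x))

/-- A class of size prime to `r` is centralised by normal `r`-subgroups. -/
theorem commute_of_normal_of_coprime {r : ℕ} [hr : Fact r.Prime] {K : Subgroup G} [K.Normal]
    (hK : IsPGroup r ↥K) {x : G} (hx : ¬ r ∣ (centralizer ({x} : Set G)).index) {s : G}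
    (hs : s ∈ K) : Commute s x := by
  have h1 := PGroups.relIndex_dvd_index_of_normal_right K (centralizer ({x} : Set G))
  obtain ⟨k, hk⟩ := IsPGroup.iff_card.mp hK
  have h2 : (centralizer ({x} : Set G)).relIndex K ∣ r ^ k := hk ▸ index_dvd_card _
  obtain ⟨i, -, hi⟩ := (Nat.dvd_prime_pow hr.out).mp h2
  rcases Nat.eq_zero_or_pos i with rfl | hi0
  · rw [pow_zero, relIndex_eq_one] at hi
    exact mem_centralizer_singleton_iff.mp (hi hs)
  · exact absurd ((hi ▸ dvd_pow_self r hi0.ne').trans h1) hx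

omit [Finite G] in
theorem index_centralizer_map_dvd {M : Type*} [Group M] (f : G →* M) (hf : Function.Surjective f)
    (x : G) : (centralizer ({f x} : Set M)).index ∣ (centralizer ({x} : Set G)).index := by
  rw [← index_comap_of_surjective _ hf]
  refine index_dvd_of_le fun c hc => ?_
  rw [mem_comap, mem_centralizer_singleton_iff, ← map_mul, ← map_mul,
    mem_centralizer_singleton_iff.mp hc]

/-- Coprime action fixing a twist. -/
theorem eq_one_of_conj_eq {g s z : G} (hzg : Commute g z) (he : g * s * g⁻¹ = z * s)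
    (hz : ∃ k : ℕ, orderOf z = q ^ k) (hg : (orderOf g).Coprime q) : z = 1 := by
  have h : ∀ n : ℕ, g ^ n * s * (g ^ n)⁻¹ = z ^ n * s := by
    intro n
    induction n with
    | zero => simp
    | succ n ih =>
      calc g ^ (n + 1) * s * (g ^ (n + 1))⁻¹ = g * (g ^ n * s * (g ^ n)⁻¹) * g⁻¹ := by
            rw [pow_succ']; group
        _ = (g * z ^ n * g⁻¹) * (g * s * g⁻¹) := by rw [ih]; group
        _ = z ^ (n + 1) * s := by
            rw [(hzg.pow_right n).eq, mul_inv_cancel_right, he, pow_succ, mul_assoc]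
  have h1 := h (orderOf g)
  rw [pow_orderOf_eq_one, one_mul, inv_one, mul_one, eq_comm, mul_eq_right] at h1
  obtain ⟨k, hk⟩ := hz
  rw [← orderOf_eq_one_iff]
  exact Nat.eq_one_of_dvd_coprimes (hg.pow_right k) (orderOf_dvd_of_pow_eq_one h1)
    (hk ▸ dvd_rfl)

/-- A normal Sylow subgroup centralised by all elements of coprime order is a direct factor. -/
theorem exists_normal_complement (Q : Sylow q G) [(Q : Subgroup G).Normal]
    (h : ∀ k : G, (orderOf k).Coprime q → ∀ s ∈ (Q : Subgroup G), Commute k s) :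
    ∃ N : Subgroup G, N.Normal ∧ N.IsComplement' (Q : Subgroup G) ∧ (Nat.card ↥N).Coprime q := by
  obtain ⟨n, hn⟩ := IsPGroup.iff_card.mp Q.isPGroup'
  have hco : (Nat.card ↥(Q : Subgroup G)).Coprime (Q : Subgroup G).index :=
    hn ▸ (hq.out.coprime_iff_not_dvd.mpr Q.not_dvd_index).pow_left n
  obtain ⟨N, hN⟩ := exists_right_complement'_of_coprime hco
  have hcN : (Nat.card ↥N).Coprime q := by
    rw [← hN.symm.index_eq_card]
    exact (hq.out.coprime_iff_not_dvd.mpr Q.not_dvd_index).symm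
  refine ⟨N, ?_, hN.symm, hcN⟩
  have htop : (Q : Subgroup G) ⊔ N ≤ normalizer (N : Set G) := by
    refine sup_le (fun s hs => ?_) le_normalizer
    have hc : ∀ k ∈ N, s * k * s⁻¹ = k := fun k hk => by
      rw [← (h k (hcN.coprime_dvd_left (orderOf_dvd_natCard N hk)) s hs).eq, mul_inv_cancel_right]
    rw [mem_normalizer_iff]
    refine fun k => ⟨fun hk => by rwa [hc k hk], fun hk => ?_⟩
    have e := hc _ hk
    have e' : k = s * k * s⁻¹ :=
      calc k = s⁻¹ * (s * k * s⁻¹) * s := by group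
        _ = s⁻¹ * (s * (s * k * s⁻¹) * s⁻¹) * s := by rw [e]
        _ = s * k * s⁻¹ := by group
    rwa [e']
  rw [hN.sup_eq_top, top_le_iff] at htop
  exact normalizer_eq_top_iff.mp htop

end Cfsg.Agent.Lib.PowerOrbits.Baer
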