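import Cfsg.Agent.Lib.PowerOrbits.BaerBasic
import Cfsg.Agent.Lib.Coprime.Action

/-!
# Class sizes of prime-power order elements: the two local arguments
-/

set_option autoImplicit false

namespace Cfsg.Agent.Lib.PowerOrbits.Baer

open Subgroup Pointwise

variable {G : Type*} [Group G] [Finite G] {q : ℕ} [hq : Fact q.Prime]

/-- Two commuting elements with classes of `r`-power and `s`-power size, the product one having
`r`-power size. -/
theorem false_of_commute_aux {x y : G} (hy : ∃ k : ℕ, orderOf y = q ^ k) {r s b c d : ℕ}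
    (hr : r.Prime) (hs : s.Prime) (hrs : r ≠ s) (hrq : r ≠ q) (hc : 0 < c)
    (hxr : (centralizer ({x} : Set G)).index = r ^ b)
    (hys : (centralizer ({y} : Set G)).index = s ^ c)
    (hxyr : (centralizer ({x * y} : Set G)).index = r ^ d) (hxy : Commute x y) : False := by
  have hco : ∀ i j : ℕ, (r ^ i).Coprime (s ^ j) := fun i j =>
    ((Nat.coprime_primes hr hs).mpr hrs).pow i j
  set S₀ : Set G := {w | ∃ g h : G, w = (h * y * h⁻¹) * (g * y * g⁻¹)⁻¹} with hS₀
  set W := Subgroup.closure S₀ with hW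
  -- the class of `x` is invariant
  have key : ∀ g h : G, ∀ z ∈ conjugatesOf x,
      z * ((h * y * h⁻¹) * (g * y * g⁻¹)⁻¹) ∈ conjugatesOf x := by
    intro g h z hz
    obtain ⟨a, rfl⟩ := mem_conjugatesOf'.mp hz
    obtain ⟨k, hk1, hk2⟩ := exists_conj_pair (u := x) (v := y) (by rw [hxr, hys]; exact hco _ _) a h
    obtain ⟨m, hm1, hm2⟩ :=
      exists_conj_pair (u := x * y) (v := y) (by rw [hxyr, hys]; exact hco _ _) k g
    refine mem_conjugatesOf'.mpr ⟨m, ?_⟩
    rw [← hk1, ← hk2, ← hm2]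
    calc m * x * m⁻¹ = (m * (x * y) * m⁻¹) * (m * y * m⁻¹)⁻¹ := by group
      _ = (k * (x * y) * k⁻¹) * (m * y * m⁻¹)⁻¹ := by rw [hm1]
      _ = k * x * k⁻¹ * ((k * y * k⁻¹) * (m * y * m⁻¹)⁻¹) := by group
  have hinv : ∀ w ∈ W, (∀ z ∈ conjugatesOf x, z * w ∈ conjugatesOf x) ∧
      (∀ z ∈ conjugatesOf x, z * w⁻¹ ∈ conjugatesOf x) := by
    intro w hw
    induction hw using Subgroup.closure_induction with
    | mem w hw =>
      obtain ⟨g, h, rfl⟩ := hw
      refine ⟨key g h, fun z hz => ?_⟩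
      rw [mul_inv_rev, inv_inv]
      exact key h g z hz
    | one => exact ⟨fun z hz => by rwa [mul_one], fun z hz => by rwa [inv_one, mul_one]⟩
    | mul u v _ _ hu hv =>
      exact ⟨fun z hz => by rw [← mul_assoc]; exact hv.1 _ (hu.1 z hz),
        fun z hz => by rw [mul_inv_rev, ← mul_assoc]; exact hu.2 _ (hv.2 z hz)⟩
    | inv u _ hu => exact ⟨hu.2, fun z hz => by rw [inv_inv]; exact hu.1 z hz⟩
  have hWr : Nat.card ↥W ∣ r ^ b := by
    have h1 := card_dvd_of_mul_left_invariant W (Inv.inv '' conjugatesOf x) (by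
      rintro w hw _ ⟨z, hz, rfl⟩
      exact ⟨z * w⁻¹, (hinv w hw).2 z hz, by group⟩)
    rwa [Nat.card_image_of_injective inv_injective, natCard_conjugatesOf, hxr] at h1
  haveI hWn : W.Normal := ⟨fun w hw t => by
    induction hw using Subgroup.closure_induction with
    | mem w hw =>
      obtain ⟨g, h, rfl⟩ := hw
      exact Subgroup.subset_closure ⟨t * g, t * h, by group⟩
    | one => simpa using one_mem W
    | mul u v _ _ hu hv => simpa [mul_assoc] using mul_mem hu hv
    | inv u _ hu => simpa [mul_assoc] using inv_mem hu⟩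
  obtain ⟨ky, hky⟩ := hy
  have hcop : (Nat.card ↥W).Coprime (Nat.card ↥(zpowers y)) := by
    rw [Nat.card_zpowers, hky]
    exact Nat.Coprime.coprime_dvd_left hWr (((Nat.coprime_primes hr hq.out).mpr hrq).pow b ky)
  have hnorm : zpowers y ≤ normalizer (W : Set G) := by
    rw [normalizer_eq_top]; exact le_top
  -- `G` is `W` times the centralizer of `y`
  have hcover : ∀ g : G, ∃ w ∈ W, w⁻¹ * g ∈ centralizer ({y} : Set G) := by
    intro g
    have hmem : g * y * g⁻¹ * y⁻¹ ∈ W := Subgroup.subset_closure ⟨1, g, by group⟩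
    have hle : zpowers (g * y * g⁻¹) ≤ W ⊔ zpowers y := by
      rw [zpowers_le]
      have := mul_mem (Subgroup.mem_sup_left hmem : _ ∈ W ⊔ zpowers y)
        (Subgroup.mem_sup_right (mem_zpowers y))
      rwa [inv_mul_cancel_right] at this
    have hcard : Nat.card ↥(zpowers (g * y * g⁻¹)) = Nat.card ↥(zpowers y) := by
      rw [Nat.card_zpowers, Nat.card_zpowers]
      exact (MulAut.conj g).orderOf_eq y
    obtain ⟨n, hn, he⟩ := Coprime.exists_conj_eq_of_le_sup hnorm hcop
      (Or.inr (Coprime.isSolvable_zpowers y)) hcard hle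
    refine ⟨n, hn, ?_⟩
    rw [mem_centralizer_iff']
    set v := n⁻¹ * g * y * (n⁻¹ * g)⁻¹ with hv
    have h1 : v ∈ zpowers y := by
      have h2 : g * y * g⁻¹ ∈ MulAut.conj n • zpowers y := he ▸ mem_zpowers _
      rw [Coprime.mem_conj_smul] at h2
      convert h2 using 1
      rw [hv]; group
    have h3 : v * y⁻¹ ∈ W := by
      have h4 : v * y⁻¹ = n⁻¹ * (g * y * g⁻¹ * y⁻¹) * n * (n⁻¹ * (y * n * y⁻¹)) := by
        rw [hv]; group
      rw [h4]
      refine mul_mem ?_ (mul_mem (inv_mem hn) (hWn.conj_mem n hn y))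
      simpa using hWn.conj_mem _ hmem n⁻¹
    exact mul_inv_eq_one.mp
      (Coprime.eq_one_of_mem_of_mem hcop h3 (mul_mem h1 (inv_mem (mem_zpowers y))))
  have hdvd : s ^ c ∣ r ^ b := hys ▸ (index_dvd_card_of_forall hcover).trans hWr
  exact hrs ((Nat.prime_dvd_prime_iff_eq hs hr).mp
    (hs.dvd_of_dvd_pow ((dvd_pow_self s hc.ne').trans hdvd))).symm

/-- Commuting `q`-elements with classes of prime-power size prime to `q` have the same prime. -/
theorem eq_of_commute {x y : G}
    (hB : ∀ x : G, (∃ k : ℕ, orderOf x = q ^ k) → ∃ (r : ℕ) (a : ℕ), r.Prime ∧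
      (centralizer ({x} : Set G)).index = r ^ a)
    (hx : ∃ k : ℕ, orderOf x = q ^ k) (hy : ∃ k : ℕ, orderOf y = q ^ k) (hxy : Commute x y)
    {r s b c : ℕ} (hr : r.Prime) (hs : s.Prime) (hrq : r ≠ q) (hsq : s ≠ q) (hb : 0 < b) (hc : 0 < c)
    (hxr : (centralizer ({x} : Set G)).index = r ^ b)
    (hys : (centralizer ({y} : Set G)).index = s ^ c) : r = s := by
  by_contra hrs
  obtain ⟨t, e, ht, hte⟩ := hB _ (exists_orderOf_mul hxy hx hy)
  have hdvd : t ^ e ∣ r ^ b * s ^ c := by
    rw [← hxr, ← hys, ← index_inf_eq_mul (by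
      rw [hxr, hys]; exact ((Nat.coprime_primes hr hs).mpr hrs).pow b c), ← hte]
    refine index_dvd_of_le fun k hk => ?_
    obtain ⟨h1, h2⟩ := mem_inf.mp hk
    rw [mem_centralizer_singleton_iff] at h1 h2 ⊢
    exact ((show Commute k x from h1).mul_right (show Commute k y from h2)).eq
  rcases Nat.eq_zero_or_pos e with rfl | he
  · exact false_of_commute_aux hy hr hs hrs hrq hc hxr hys (d := 0) (by rw [hte, pow_zero, pow_zero])
      hxy
  have htd : t ∣ r ^ b * s ^ c := (dvd_pow_self t he.ne').trans hdvd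
  rcases ht.dvd_mul.mp htd with h | h
  · rw [(Nat.prime_dvd_prime_iff_eq ht hr).mp (ht.dvd_of_dvd_pow h)] at hte
    exact false_of_commute_aux hy hr hs hrs hrq hc hxr hys hte hxy
  · rw [(Nat.prime_dvd_prime_iff_eq ht hs).mp (ht.dvd_of_dvd_pow h), hxy.eq] at hte
    exact false_of_commute_aux hx hs hr (Ne.symm hrs) hsq hb hys hxr hte hxy.symm

/-- An element with nontrivial class of `q`-power size forces all `q`-elements into `O_q(G)`. -/
theorem mem_pCore_of_qType
    (hB : ∀ x : G, (∃ k : ℕ, orderOf x = q ^ k) → ∃ (r : ℕ) (a : ℕ), r.Prime ∧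
      (centralizer ({x} : Set G)).index = r ^ a)
    {x : G} (hx : ∃ k : ℕ, orderOf x = q ^ k) {a : ℕ} (ha : 0 < a)
    (hxa : (centralizer ({x} : Set G)).index = q ^ a) {y : G} (hy : ∃ k : ℕ, orderOf y = q ^ k) :
    y ∈ Cfsg.pCore q G := by
  by_contra hyS
  have hcore : ∀ u : G, (∃ k : ℕ, orderOf u = q ^ k) → u ∉ Cfsg.pCore q G →
      ¬ q ∣ (centralizer ({u} : Set G)).index := by
    intro u hu huS hd
    obtain ⟨t, e, ht, hte⟩ := hB u hu
    rw [hte] at hd
    rw [← (Nat.prime_dvd_prime_iff_eq hq.out ht).mp (hq.out.dvd_of_dvd_pow hd)] at hte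
    exact huS (mem_pCore_of_index_eq hu hte)
  haveI : (Cfsg.pCore q G).Normal := Cfsg.pCore_normal q G
  have hxS : x ∈ Cfsg.pCore q G := mem_pCore_of_index_eq hx hxa
  have hcy := hcore y hy hyS
  have hxy : Commute x y := commute_of_normal_of_coprime (Cores.pCore_isPGroup q G) hcy hxS
  have hTS : x * y ∉ Cfsg.pCore q G := fun h => hyS (by
    simpa using mul_mem (inv_mem hxS) h)
  have hcT := hcore _ (exists_orderOf_mul hxy hx hy) hTS
  have hcox : ∀ n : ℕ, ¬ q ∣ n → (q ^ a).Coprime n := fun n hn =>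
    (hq.out.coprime_iff_not_dvd.mpr hn).pow_left a
  -- `x` would be central
  have hcentral : ∀ g : G, g * x * g⁻¹ = x := by
    intro g
    set z := x⁻¹ * (g * x * g⁻¹) with hz
    have hinv : ∀ w ∈ zpowers z, ∀ u ∈ conjugatesOf y, w * u ∈ conjugatesOf y := by
      have h1 : ∀ u ∈ conjugatesOf y, z * u ∈ conjugatesOf y := by
        intro u hu
        obtain ⟨h, rfl⟩ := mem_conjugatesOf'.mp hu
        obtain ⟨k, hk1, hk2⟩ :=
          exists_conj_pair (u := x) (v := y) (by rw [hxa]; exact hcox _ hcy) g h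
        obtain ⟨m, hm1, hm2⟩ :=
          exists_conj_pair (u := x) (v := x * y) (by rw [hxa]; exact hcox _ hcT) 1 k
        rw [inv_one, one_mul, mul_one] at hm1
        refine mem_conjugatesOf'.mpr ⟨m, ?_⟩
        rw [hz, ← hk1, ← hk2]
        calc m * y * m⁻¹ = (m * x * m⁻¹)⁻¹ * (m * (x * y) * m⁻¹) := by group
          _ = x⁻¹ * (k * (x * y) * k⁻¹) := by rw [hm1, hm2]
          _ = x⁻¹ * (k * x * k⁻¹) * (k * y * k⁻¹) := by group
      intro w hw u hu
      obtain ⟨n, rfl⟩ := (isOfFinOrder_of_finite z).mem_powers_iff_mem_zpowers.mpr hw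
      clear hw
      show z ^ n * u ∈ conjugatesOf y
      induction n with
      | zero => rwa [pow_zero, one_mul]
      | succ n ih => rw [pow_succ', mul_assoc]; exact h1 _ ih
    have h2 := card_dvd_of_mul_left_invariant _ _ hinv
    rw [Nat.card_zpowers, natCard_conjugatesOf] at h2
    obtain ⟨i, hi⟩ := exists_orderOf_of_mem (q := q) (Cores.pCore_isPGroup q G)
      (show z ∈ Cfsg.pCore q G from mul_mem (inv_mem hxS)
        ((inferInstance : (Cfsg.pCore q G).Normal).conj_mem x hxS g))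
    have h3 : orderOf z = 1 := by
      rcases Nat.eq_zero_or_pos i with rfl | hi0
      · rw [hi, pow_zero]
      · exact absurd (((dvd_pow_self q hi0.ne').trans hi.symm.dvd).trans h2) hcy
    rw [orderOf_eq_one_iff, hz, inv_mul_eq_one] at h3
    exact h3.symm
  have : centralizer ({x} : Set G) = ⊤ :=
    eq_top_iff.mpr fun g _ => mem_centralizer_iff'.mpr (hcentral g)
  rw [this, index_top] at hxa
  exact absurd hxa.symm (Nat.one_lt_pow ha.ne' hq.out.one_lt).ne'

/-- With a normal Sylow `q`-subgroup and a class of `q`-power size, elements of coprime order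
centralise the Sylow subgroup. -/
theorem commute_of_qType
    (hB : ∀ x : G, (∃ k : ℕ, orderOf x = q ^ k) → ∃ (r : ℕ) (a : ℕ), r.Prime ∧
      (centralizer ({x} : Set G)).index = r ^ a)
    (Q : Sylow q G) [(Q : Subgroup G).Normal] {x : G} (hxQ : x ∈ (Q : Subgroup G)) {a : ℕ}
    (ha : 0 < a) (hxa : (centralizer ({x} : Set G)).index = q ^ a)
    {k : G} (hk : (orderOf k).Coprime q) {s : G} (hs : s ∈ (Q : Subgroup G)) : Commute k s := by
  set S := (Q : Subgroup G) with hS
  have hSp : IsPGroup q ↥S := Q.isPGroup'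
  set Z := centralizer (S : Set G) ⊓ S with hZ
  haveI hZn : Z.Normal := Subgroup.normal_inf_normal _ _
  -- a class outside `Z` has `q`-power size, so `S` is transitive on it
  have hout : ∀ u ∈ S, u ∉ Z → ∀ g : G, ∃ v ∈ S, g * u * g⁻¹ = v * u * v⁻¹ := by
    intro u hu huZ g
    obtain ⟨t, e, ht, hte⟩ := hB u (exists_orderOf_of_mem hSp hu)
    by_cases htq : t = q
    · subst htq
      have hco : S.index.Coprime (centralizer ({u} : Set G)).index :=
        hte ▸ (hq.out.coprime_iff_not_dvd.mpr Q.not_dvd_index).symm.pow_right e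
      obtain ⟨v, hv, c, hc, rfl⟩ := exists_mul_of_coprime_index hco g
      rw [mem_centralizer_iff'] at hc
      exact ⟨v, hv, by rw [show v * c * u * (v * c)⁻¹ = v * (c * u * c⁻¹) * v⁻¹ by group, hc]⟩
    · refine absurd (mem_inf.mpr ⟨mem_centralizer_iff.mpr fun v hv => ?_, hu⟩) huZ
      exact (commute_of_normal_of_coprime hSp (by
        rw [hte]
        exact fun h => htq ((Nat.prime_dvd_prime_iff_eq hq.out ht).mp
          (hq.out.dvd_of_dvd_pow h)).symm) hv).eq
  have hSA : zpowers k ≤ normalizer (S : Set G) := by rw [normalizer_eq_top]; exact le_top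
  have hcop : (Nat.card ↥(zpowers k)).Coprime (Nat.card ↥S) := by
    obtain ⟨n, hn⟩ := IsPGroup.iff_card.mp hSp
    rw [Nat.card_zpowers, hn]
    exact hk.pow_right n
  set F := (centralizer (zpowers k : Set G) ⊓ S) ⊔ Z with hF
  have hFS : F ≤ S := sup_le inf_le_right inf_le_right
  -- the fixed points and the center generate `S`
  have hFeq : F = S := by
    by_contra hne
    have hlt : F.subgroupOf S ≠ ⊤ := by
      rw [Ne, subgroupOf_eq_top]
      exact fun h => hne (le_antisymm hFS h)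
    haveI := hSp.isNilpotent
    obtain ⟨M, hM, hFM⟩ := (eq_top_or_exists_le_coatom (F.subgroupOf S)).resolve_left hlt
    haveI : M.Normal := Subgroup.NormalizerCondition.normal_of_coatom M
      Group.normalizerCondition_of_isNilpotent hM
    obtain ⟨u, hu⟩ : ∃ u : ↥S, u ∉ M := by
      by_contra h
      push Not at h
      exact hM.1 (eq_top_iff.mpr fun u _ => h u)
    have huZ : (u : G) ∉ Z := fun h => hu (hFM (mem_sup_right h))
    obtain ⟨v, hv, hfix⟩ := Coprime.exists_fixed_smul hSA hcop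
      (Or.inl (Coprime.isSolvable_zpowers k)) ((1 : G) : G ⧸ centralizer ({(u : G)} : Set G))
      (fun b hb => by
        obtain ⟨w, hw, he⟩ := hout u u.2 huZ b
        refine ⟨w, hw, ?_⟩
        rw [MulAction.Quotient.smul_mk, MulAction.Quotient.smul_mk, smul_eq_mul, smul_eq_mul,
          mul_one, mul_one, QuotientGroup.eq, mem_centralizer_iff']
        calc b⁻¹ * w * u * (b⁻¹ * w)⁻¹ = b⁻¹ * (w * u * w⁻¹) * b := by group
          _ = u := by rw [← he]; group)
    have hvc : v * u * v⁻¹ ∈ centralizer (zpowers k : Set G) := by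
      rw [mem_centralizer_iff]
      intro b hb
      have h1 := hfix b hb
      rw [MulAction.Quotient.smul_mk, MulAction.Quotient.smul_mk, smul_eq_mul, smul_eq_mul,
        mul_one, QuotientGroup.eq, mem_centralizer_iff'] at h1
      have h2 : v * u * v⁻¹ = b * (v * u * v⁻¹) * b⁻¹ := by
        calc v * u * v⁻¹ = (b * v) * ((b * v)⁻¹ * v * u * ((b * v)⁻¹ * v)⁻¹) * (b * v)⁻¹ := by group
          _ = _ := by rw [h1]; group
      conv_rhs => rw [h2]
      group
    have hmem : (⟨v, hv⟩ : ↥S) * u * (⟨v, hv⟩ : ↥S)⁻¹ ∈ M :=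
      hFM (mem_sup_left (mem_inf.mpr ⟨hvc, mul_mem (mul_mem hv u.2) (inv_mem hv)⟩))
    have h3 := (inferInstance : M.Normal).conj_mem _ hmem (⟨v, hv⟩ : ↥S)⁻¹
    exact hu (by simpa [mul_assoc] using h3)
  have hdec : ∀ u ∈ S, ∃ f ∈ centralizer (zpowers k : Set G) ⊓ S, ∃ z ∈ Z, f * z = u := by
    intro u hu
    rw [← hFeq, hF, ← SetLike.mem_coe, mul_normal] at hu
    exact Set.mem_mul.mp hu
  have hcomk : ∀ f ∈ centralizer (zpowers k : Set G) ⊓ S, Commute k f := fun f hf =>
    mem_centralizer_iff.mp (mem_inf.mp hf).1 k (mem_zpowers k)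
  -- a noncentral fixed element
  obtain ⟨c, hc, zc, hzc, hcz⟩ := hdec x hxQ
  have hxZ : x ∉ Z := fun h => by
    have h1 : S ≤ centralizer ({x} : Set G) := fun v hv =>
      mem_centralizer_singleton_iff.mpr (mem_centralizer_iff.mp (mem_inf.mp h).1 v hv)
    have h2 := index_dvd_of_le h1
    rw [hxa] at h2
    exact Q.not_dvd_index ((dvd_pow_self q ha.ne').trans h2)
  have hcZ : c ∉ Z := fun h => hxZ (hcz ▸ mul_mem h hzc)
  -- `k` centralises `Z`
  have hkZ : ∀ w ∈ Z, Commute k w := by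
    intro w hw
    have hcw : c * w ∉ Z := fun h => hcZ (by simpa using mul_mem h (inv_mem hw))
    obtain ⟨v, hv, he⟩ := hout _ (mul_mem (mem_inf.mp hc).2 (mem_inf.mp hw).2) hcw k
    obtain ⟨f, hf, z, hz, rfl⟩ := hdec v hv
    have hZc : ∀ z ∈ Z, ∀ v ∈ S, Commute z v := fun z hz v hv =>
      (mem_centralizer_iff.mp (mem_inf.mp hz).1 v hv).symm
    have h1 : k * w * k⁻¹ = c⁻¹ * (f * c * f⁻¹) * w := by
      have h2 : k * (c * w) * k⁻¹ = c * (k * w * k⁻¹) := by
        calc k * (c * w) * k⁻¹ = k * c * w * k⁻¹ := by group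
          _ = c * k * w * k⁻¹ := by rw [(hcomk c hc).eq]
          _ = c * (k * w * k⁻¹) := by group
      have h3 : f * z * (c * w) * (f * z)⁻¹ = f * c * f⁻¹ * w := by
        calc f * z * (c * w) * (f * z)⁻¹ = f * (z * (c * w) * z⁻¹) * f⁻¹ := by group
          _ = f * (c * w) * f⁻¹ := by
            rw [(hZc z hz _ (mul_mem (mem_inf.mp hc).2 (mem_inf.mp hw).2)).eq, mul_inv_cancel_right]
          _ = f * c * (w * f⁻¹) := by group
          _ = f * c * f⁻¹ * w := by
            rw [(hZc w hw _ (inv_mem (mem_inf.mp hf).2)).eq]; group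
      rw [h2, h3] at he
      rw [mul_assoc c⁻¹, ← he, inv_mul_cancel_left]
    set z0 := c⁻¹ * (f * c * f⁻¹) with hz0
    have hz0k : Commute k z0 :=
      (hcomk c hc).inv_right.mul_right
        (((hcomk f hf).mul_right (hcomk c hc)).mul_right (hcomk f hf).inv_right)
    have hz0S : z0 ∈ S := mul_mem (inv_mem (mem_inf.mp hc).2)
      (mul_mem (mul_mem (mem_inf.mp hf).2 (mem_inf.mp hc).2) (inv_mem (mem_inf.mp hf).2))
    have h4 : z0 = 1 := eq_one_of_conj_eq hz0k h1 (exists_orderOf_of_mem hSp hz0S) hk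
    rw [h4, one_mul, mul_inv_eq_iff_eq_mul] at h1
    exact h1
  obtain ⟨f, hf, z, hz, rfl⟩ := hdec s hs
  exact (hcomk f hf).mul_right (hkZ z hz)

end Cfsg.Agent.Lib.PowerOrbits.Baer
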