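import Cfsg.Agent.Lib.PowerOrbits.Main
import Mathlib.GroupTheory.Abelianization.Defs
import Mathlib.LinearAlgebra.Quotient.Basic

/-!
# Coprime linear groups with all orbits of `p`-power size are solvable: the induction
-/

set_option autoImplicit false

namespace Cfsg.Agent.Lib.PowerOrbits

open MulAction

universe u

variable {q : ℕ} [hq' : Fact q.Prime]

/-- Pushing the hypothesis along a homomorphism. -/
theorem powOrbits_range {p : ℕ} [hp : Fact p.Prime] {K : Type*} [Group K] {W : Type*}
    [AddCommGroup W] [Module (ZMod q) W] (φ : K →* (W ≃ₗ[ZMod q] W))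
    (h : ∀ w : W, ∃ i : ℕ, ((stabilizer (W ≃ₗ[ZMod q] W) w).comap φ).index ∣ p ^ i) :
    PowOrbits p φ.range := by
  intro w
  obtain ⟨i, hi⟩ := h w
  have he : (stabilizer ↥φ.range w).comap φ.rangeRestrict =
      (stabilizer (W ≃ₗ[ZMod q] W) w).comap φ := by
    ext k; rfl
  rw [← he, Subgroup.index_comap_of_surjective _ φ.rangeRestrict_surjective] at hi
  obtain ⟨j, -, hj⟩ := (Nat.dvd_prime_pow hp.out).mp hi
  exact ⟨j, hj⟩

/-- A coprime linear group all of whose orbits have `p`-power size is solvable. -/
theorem isSolvable_of_powOrbits {p : ℕ} [hp : Fact p.Prime] :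
    ∀ (n : ℕ) (V : Type u) [AddCommGroup V] [Module (ZMod q) V] [Finite V],
      Nat.card V ≤ n → ∀ H : Subgroup (V ≃ₗ[ZMod q] V),
        ¬ q ∣ Nat.card ↥H → PowOrbits p H → Group.IsSolvable ↥H := by
  intro n
  induction n with
  | zero =>
    intro V _ _ _ h
    exact absurd (Nat.card_pos (α := V)) (by omega)
  | succ n ih =>
    intro V _ _ _ hV
    haveI : Finite (V ≃ₗ[ZMod q] V) := Finite.of_injective _ DFunLike.coe_injective
    suffices key : ∀ (m : ℕ) (H : Subgroup (V ≃ₗ[ZMod q] V)), Nat.card ↥H ≤ m →
        ¬ q ∣ Nat.card ↥H → PowOrbits p H → Group.IsSolvable ↥H from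
      fun H => key _ H le_rfl
    intro m
    induction m with
    | zero =>
      intro H h
      exact absurd (Nat.card_pos (α := ↥H)) (by omega)
    | succ m ihm =>
      intro H hm hq hH
      rcases subsingleton_or_nontrivial V with hV' | hV'
      · haveI : Subsingleton ↥H :=
          ⟨fun a b => Subtype.ext (LinearEquiv.ext fun x => Subsingleton.elim _ _)⟩
        infer_instance
      by_cases hred : ∃ U : Submodule (ZMod q) V,
          (∀ g : ↥H, ∀ x ∈ U, g • x ∈ U) ∧ U ≠ ⊥ ∧ U ≠ ⊤
      · obtain ⟨U, hU, hU0, hU1⟩ := hred
        let φ : ↥H →* (↥U ≃ₗ[ZMod q] ↥U) :=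
          { toFun := fun g =>
              { toFun := fun x => ⟨g • (x : V), hU g x x.2⟩
                invFun := fun x => ⟨g⁻¹ • (x : V), hU g⁻¹ x x.2⟩
                left_inv := fun x => Subtype.ext (inv_smul_smul g (x : V))
                right_inv := fun x => Subtype.ext (smul_inv_smul g (x : V))
                map_add' := fun x y => Subtype.ext (smul_add g (x : V) (y : V))
                map_smul' := fun c x => Subtype.ext (map_smul (g : V ≃ₗ[ZMod q] V) c (x : V)) }
            map_one' := LinearEquiv.ext fun x => Subtype.ext (one_smul ↥H (x : V))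
            map_mul' := fun g h => LinearEquiv.ext fun x => Subtype.ext (mul_smul g h (x : V)) }
        have hmap : ∀ g : ↥H, U.map (((g : V ≃ₗ[ZMod q] V)) : V →ₗ[ZMod q] V) = U := by
          intro g
          refine le_antisymm (fun y hy => ?_) fun y hy => ?_
          · obtain ⟨x, hx, rfl⟩ := Submodule.mem_map.mp hy
            exact hU g x hx
          · exact Submodule.mem_map.mpr ⟨g⁻¹ • y, hU g⁻¹ y hy, smul_inv_smul g y⟩
        let ψ : ↥H →* ((V ⧸ U) ≃ₗ[ZMod q] (V ⧸ U)) :=
          { toFun := fun g => Submodule.Quotient.equiv U U (g : V ≃ₗ[ZMod q] V) (hmap g)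
            map_one' := LinearEquiv.ext fun x => by
              induction x using Submodule.Quotient.induction_on with
              | H x => rfl
            map_mul' := fun g h => LinearEquiv.ext fun x => by
              induction x using Submodule.Quotient.induction_on with
              | H x => rfl }
        have hφ : PowOrbits p φ.range := powOrbits_range φ fun w => by
          obtain ⟨i, hi⟩ := hH (w : V)
          refine ⟨i, hi ▸ Subgroup.index_dvd_of_le fun g hg => ?_⟩
          exact Subtype.ext hg
        have hψ : PowOrbits p ψ.range := powOrbits_range ψ fun w => by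
          induction w using Submodule.Quotient.induction_on with
          | H w =>
            obtain ⟨i, hi⟩ := hH w
            refine ⟨i, hi ▸ Subgroup.index_dvd_of_le fun g hg => ?_⟩
            exact congrArg (Submodule.Quotient.mk (p := U)) hg
        haveI : Finite (V ⧸ U) := Finite.of_surjective _ (Submodule.Quotient.mk_surjective U)
        have hcV := U.card_eq_card_quotient_mul_card
        have hcU : 1 < Nat.card ↥U := by
          haveI := (Submodule.nontrivial_iff_ne_bot).mpr hU0
          exact Finite.one_lt_card
        have hcQ : 1 < Nat.card (V ⧸ U) := by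
          haveI : Nontrivial (V ⧸ U) := Submodule.Quotient.nontrivial_iff.mpr hU1
          exact Finite.one_lt_card
        haveI := ih ↥U (by
          have : Nat.card ↥U < Nat.card V := by
            calc Nat.card ↥U < Nat.card (V ⧸ U) * Nat.card ↥U := lt_mul_of_one_lt_left Nat.card_pos hcQ
              _ = Nat.card V := by rw [hcV]; ring
          omega) φ.range (fun h => hq (h.trans (Subgroup.card_range_dvd φ))) hφ
        haveI := ih (V ⧸ U) (by
          have : Nat.card (V ⧸ U) < Nat.card V := by
            calc Nat.card (V ⧸ U) < Nat.card ↥U * Nat.card (V ⧸ U) := lt_mul_of_one_lt_left Nat.card_pos hcU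
              _ = Nat.card V := by rw [hcV]
          omega) ψ.range (fun h => hq (h.trans (Subgroup.card_range_dvd ψ))) hψ
        refine Group.isSolvable_of_isSolvable_injective
          (f := φ.rangeRestrict.prod ψ.rangeRestrict) ?_
        rw [injective_iff_map_eq_one]
        intro g hg
        have h1 : φ g = 1 := congrArg Subtype.val (Prod.ext_iff.mp hg).1
        have h2 : ψ g = 1 := congrArg Subtype.val (Prod.ext_iff.mp hg).2
        have hfix : ∀ x ∈ U, g • x = x := fun x hx =>
          congrArg Subtype.val (LinearEquiv.congr_fun h1 ⟨x, hx⟩)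
        have hdiff : ∀ x : V, g • x - x ∈ U := fun x =>
          (Submodule.Quotient.eq U).mp (LinearEquiv.congr_fun h2 (Submodule.Quotient.mk x))
        have h3 : (g : V ≃ₗ[ZMod q] V) ^ q = 1 :=
          pow_char_eq_one_of_sq _ fun x => hfix _ (hdiff x)
        have h4 : g ^ q = 1 := Subtype.ext (by rw [Subgroup.coe_pow]; exact h3)
        rw [← orderOf_eq_one_iff]
        exact Nat.eq_one_of_dvd_coprimes
          ((hq'.out.coprime_iff_not_dvd).mpr fun h => hq (h.trans (orderOf_dvd_natCard g)))
          (orderOf_dvd_of_pow_eq_one h4) dvd_rfl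
      push Not at hred
      by_contra hns
      have hsol : ∀ M : Subgroup ↥H, M.Normal → M ≠ ⊤ → Group.IsSolvable ↥M := by
        intro M hM hMt
        haveI := hM
        have hdvd : Nat.card ↥(H.subtype.comp M.subtype).range ∣ Nat.card ↥M :=
          Subgroup.card_range_dvd _
        haveI := ihm (H.subtype.comp M.subtype).range
          (by
            have h1 : Nat.card ↥M < Nat.card ↥H := lt_of_le_of_ne (Subgroup.card_le_card_group M)
              fun he => hMt (Subgroup.eq_top_of_card_eq M he)
            have := Nat.le_of_dvd Nat.card_pos hdvd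
            omega)
          (fun h => hq (h.trans (hdvd.trans (Subgroup.card_subgroup_dvd_card M))))
          (powOrbits_range _ fun v => by
            obtain ⟨i, hi⟩ := hH v
            exact ⟨i, hi ▸ index_stabilizer_normal_dvd M v⟩)
        exact Group.isSolvable_of_isSolvable_injective (f := (H.subtype.comp M.subtype).rangeRestrict)
          (MonoidHom.rangeRestrict_injective_iff.mpr
            (H.subtype_injective.comp M.subtype_injective))
      have hperf : commutator ↥H = ⊤ := by
        by_contra hne
        haveI := hsol (commutator ↥H) inferInstance hne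
        exact hns (Group.isSolvable_of_ker_le_range (commutator ↥H).subtype Abelianization.of
          (by rw [Abelianization.ker_of, Subgroup.range_subtype]))
      exact false_of_minimal hq hH hperf
        (fun U hU => or_iff_not_imp_left.mpr (hred U hU)) hsol hns

end Cfsg.Agent.Lib.PowerOrbits
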