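import Cfsg.Agent.Lib.PowerOrbits.BaerBasic
import Cfsg.Agent.Lib.PowerOrbits.Induction
import Cfsg.Agent.Lib.OddLocal.PStable
import Cfsg.Agent.Lib.Characters.Kazarin
import Mathlib.Algebra.Module.ZMod

/-!
# Class sizes of prime-power order elements: cores and solvability
-/

set_option autoImplicit false

namespace Cfsg.Agent.Lib.PowerOrbits.Baer

open Subgroup

universe u

variable {G : Type u} [Group G] [Finite G] {q : ℕ} [hq : Fact q.Prime]

/-- The `q`-elements lie in a solvable normal subgroup. -/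
theorem exists_solvable_normal
    (hB : ∀ x : G, (∃ k : ℕ, orderOf x = q ^ k) → ∃ (r : ℕ) (a : ℕ), r.Prime ∧
      (centralizer ({x} : Set G)).index = r ^ a) :
    ∃ R : Subgroup G, R.Normal ∧ Group.IsSolvable ↥R ∧
      ∀ x : G, (∃ k : ℕ, orderOf x = q ^ k) → x ∈ R := by
  obtain ⟨R, -, ⟨hRn, hRs⟩, hmax⟩ := Finite.exists_le_maximal (α := Subgroup G)
    (p := fun R => R.Normal ∧ Group.IsSolvable ↥R) (a := ⊥) ⟨inferInstance, inferInstance⟩
  refine ⟨R, hRn, hRs, fun x hx => ?_⟩
  obtain ⟨r, a, hr, hra⟩ := hB x hx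
  haveI := hRn
  have h1 := Characters.isSolvable_normalClosure_of_index_primePow x hr hra
  exact hmax ⟨Subgroup.sup_normal _ _, Characters.isSolvable_sup_normal R _ hRs h1⟩ le_sup_left
    (mem_sup_right (subset_normalClosure (Set.mem_singleton x)))

/-- In a group with trivial `q'`-core, `q`-elements of a solvable normal subgroup with classes of
size prime to `q` lie in `O_q` and centralise it. -/
theorem mem_pCore_of_coprime_classes {X : Type u} [Group X] [Finite X]
    (hcore : Cfsg.pPrimeCore q X = ⊥) {R : Subgroup X} [R.Normal] [Group.IsSolvable ↥R] {x : X}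
    (hxR : x ∈ R) (hx : ¬ q ∣ (centralizer ({x} : Set X)).index) :
    x ∈ Cfsg.pCore q X ∧ ∀ s ∈ Cfsg.pCore q X, Commute s x := by
  haveI : (Cfsg.pCore q X).Normal := Cfsg.pCore_normal q X
  have hc : ∀ s ∈ Cfsg.pCore q X, Commute s x := fun s hs =>
    commute_of_normal_of_coprime (Cores.pCore_isPGroup q X) hx hs
  refine ⟨?_, hc⟩
  have h0 : Cfsg.pPrimeCore q ↥R = ⊥ :=
    (map_eq_bot_iff_of_injective _ R.subtype_injective).mp
      (le_bot_iff.mp (hcore ▸ Cores.map_subtype_pPrimeCore_le R))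
  have h1 : (⟨x, hxR⟩ : ↥R) ∈ centralizer (Cfsg.pCore q ↥R : Set ↥R) := by
    rw [mem_centralizer_iff]
    intro s hs
    exact Subtype.ext (hc s (Cores.map_subtype_pCore_le R ⟨s, hs, rfl⟩)).eq
  exact Cores.map_subtype_pCore_le R ⟨_, OddLocal.centralizer_pCore_le h0 h1, rfl⟩

/-- All classes of `q`-elements of `p`-power size: modulo `O_p` they lie in `O_q`. -/
theorem mem_pCore_quotient {p : ℕ} [hp : Fact p.Prime]
    (hB : ∀ x : G, (∃ k : ℕ, orderOf x = q ^ k) → ∃ a : ℕ,
      (centralizer ({x} : Set G)).index = p ^ a)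
    {R : Subgroup G} [R.Normal] [Group.IsSolvable ↥R]
    (hR : ∀ x : G, (∃ k : ℕ, orderOf x = q ^ k) → x ∈ R)
    [(Cfsg.pCore p G).Normal] {x : G} (hx : ∃ k : ℕ, orderOf x = q ^ k) :
    QuotientGroup.mk' (Cfsg.pCore p G) x ∈ Cfsg.pCore q (G ⧸ Cfsg.pCore p G) := by
  set π := QuotientGroup.mk' (Cfsg.pCore p G) with hπ
  set T := R.map π with hT
  haveI : T.Normal := Subgroup.Normal.map inferInstance π (QuotientGroup.mk'_surjective _)
  haveI : Group.IsSolvable ↥T :=
    Group.isSolvable_of_surjective (MonoidHom.subgroupMap_surjective π R)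
  obtain ⟨a, ha⟩ := hB x hx
  have hxT : π x ∈ T := mem_map_of_mem π (hR x hx)
  have hF : Cfsg.fittingSubgroup ↥T ≤ centralizer ({⟨π x, hxT⟩} : Set ↥T) := by
    refine Cores.fittingSubgroup_le_of_pCore_le fun r hr s hs => ?_
    haveI := Fact.mk hr
    haveI : (Cfsg.pCore r (G ⧸ Cfsg.pCore p G)).Normal := Cfsg.pCore_normal r _
    have hs' : (s : G ⧸ Cfsg.pCore p G) ∈ Cfsg.pCore r (G ⧸ Cfsg.pCore p G) :=
      Cores.map_subtype_pCore_le T ⟨s, hs, rfl⟩
    rw [mem_centralizer_singleton_iff]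
    apply Subtype.ext
    by_cases hrp : r = p
    · subst hrp
      rw [Cores.pCore_quotient_pCore, mem_bot] at hs'
      simp [hs']
    · refine (commute_of_normal_of_coprime (Cores.pCore_isPGroup r _) ?_ hs').eq
      intro hd
      have h1 := hd.trans (index_centralizer_map_dvd π (QuotientGroup.mk'_surjective _) x)
      rw [ha] at h1
      exact hrp ((Nat.prime_dvd_prime_iff_eq hr hp.out).mp (hr.dvd_of_dvd_pow h1))
  have hxF : (⟨π x, hxT⟩ : ↥T) ∈ Cfsg.fittingSubgroup ↥T :=
    Cores.centralizer_fittingSubgroup_le inferInstance <| mem_centralizer_iff.mpr fun s hs =>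
      mem_centralizer_singleton_iff.mp (hF hs)
  -- a `q`-element of the nilpotent group `F(T)`
  have hxq : ∃ k : ℕ, orderOf (π x) = q ^ k := by
    obtain ⟨k, hk⟩ := hx
    obtain ⟨j, -, hj⟩ := (Nat.dvd_prime_pow hq.out).mp (hk ▸ orderOf_map_dvd π x)
    exact ⟨j, hj⟩
  haveI : (Cfsg.fittingSubgroup ↥T).Normal := Subgroup.sSup_normal _ (fun _ h => h.1)
  haveI := Cores.fittingSubgroup_isNilpotent ↥T
  obtain ⟨P, hP⟩ := exists_sylow_mem (q := q)
    (x := (⟨⟨π x, hxT⟩, hxF⟩ : ↥(Cfsg.fittingSubgroup ↥T)))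
    (by simpa [Subgroup.orderOf_mk] using hxq)
  have hPn : (P : Subgroup ↥(Cfsg.fittingSubgroup ↥T)).Normal :=
    Sylow.normal_of_normalizerCondition Group.normalizerCondition_of_isNilpotent P
  exact Cores.map_subtype_pCore_le T ⟨_, Cores.map_subtype_pCore_le (Cfsg.fittingSubgroup ↥T)
    ⟨_, Cores.le_pCore hPn P.isPGroup' hP, rfl⟩, rfl⟩

/-- Automorphisms of an elementary abelian group as linear maps. -/
def linRep {X : Type*} [Group X] {W : Type*} [CommGroup W] [Module (ZMod q) (Additive W)]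
    (f : X →* MulAut W) : X →* (Additive W ≃ₗ[ZMod q] Additive W) where
  toFun g :=
    { toFun := fun a => Additive.ofMul (f g (Additive.toMul a))
      invFun := fun a => Additive.ofMul ((f g).symm (Additive.toMul a))
      left_inv := fun a => congrArg Additive.ofMul ((f g).symm_apply_apply _)
      right_inv := fun a => congrArg Additive.ofMul ((f g).apply_symm_apply _)
      map_add' := fun a b => congrArg Additive.ofMul (map_mul (f g) _ _)
      map_smul' := fun c a => ZMod.map_smul
        (AddMonoidHom.mk' (fun a : Additive W => Additive.ofMul (f g (Additive.toMul a)))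
          fun a b => congrArg Additive.ofMul (map_mul (f g) _ _)) c a }
  map_one' := LinearEquiv.ext fun a => by
    show Additive.ofMul (f 1 (Additive.toMul a)) = a
    rw [map_one]; rfl
  map_mul' g h := LinearEquiv.ext fun a => by
    show Additive.ofMul (f (g * h) (Additive.toMul a)) =
      Additive.ofMul (f g (f h (Additive.toMul a)))
    rw [map_mul]; rfl

/-- A group with a self-centralising abelian Sylow subgroup and `p`-power classes in it is
solvable. -/
theorem isSolvable_of_abelian_sylow {p : ℕ} [Fact p.Prime] {X : Type u} [Group X] [Finite X]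
    (S : Subgroup X) [S.Normal] (hSp : IsPGroup q ↥S) (hSc : ∀ x ∈ S, ∀ y ∈ S, x * y = y * x)
    (hidx : ¬ q ∣ S.index)
    (hself : ∀ g : X, (orderOf g).Coprime q → (∀ s ∈ S, Commute g s) → g = 1)
    (horb : ∀ v ∈ S, ∃ i : ℕ, (centralizer ({v} : Set X)).index ∣ p ^ i) :
    Group.IsSolvable X := by
  let Ω : Subgroup X :=
    { carrier := {s | s ∈ S ∧ s ^ q = 1}
      one_mem' := ⟨one_mem S, one_pow q⟩
      mul_mem' := fun {x y} hx hy => ⟨mul_mem hx.1 hy.1, by
        rw [(show Commute x y from hSc x hx.1 y hy.1).mul_pow, hx.2, hy.2, one_mul]⟩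
      inv_mem' := fun {x} hx => ⟨inv_mem hx.1, by rw [inv_pow, hx.2, inv_one]⟩ }
  haveI : Ω.Normal := ⟨fun x hx g => ⟨(inferInstance : S.Normal).conj_mem x hx.1 g, by
    rw [conj_pow, hx.2]; group⟩⟩
  have hΩc : ∀ a b : ↥Ω, a * b = b * a := fun a b => Subtype.ext (hSc _ a.2.1 _ b.2.1)
  letI : CommGroup ↥Ω := { Subgroup.toGroup Ω with mul_comm := hΩc }
  have hexp : ∀ a : Additive ↥Ω, q • a = 0 := fun a => by
    show (Additive.toMul a) ^ q = 1
    exact Subtype.ext (Additive.toMul a).2.2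
  obtain ⟨_⟩ : Nonempty (Module (ZMod q) (Additive ↥Ω)) := ⟨AddCommGroup.zmodModule hexp⟩
  let ρ := linRep (q := q) (MulAut.conjNormal : X →* MulAut ↥Ω)
  have hρ : ∀ g : X, g ∈ ρ.ker ↔ ∀ w ∈ Ω, Commute g w := by
    intro g
    rw [MonoidHom.mem_ker]
    constructor
    · intro h w hw
      have h1 := congrArg Subtype.val (congrArg Additive.toMul
        (LinearEquiv.congr_fun h (Additive.ofMul (⟨w, hw⟩ : ↥Ω))))
      have h2 : g * w * g⁻¹ = w := h1
      exact mul_inv_eq_iff_eq_mul.mp h2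
    · intro h
      refine LinearEquiv.ext fun a => congrArg Additive.ofMul (Subtype.ext ?_)
      show g * ((Additive.toMul a : ↥Ω) : X) * g⁻¹ = ((Additive.toMul a : ↥Ω) : X)
      exact mul_inv_eq_iff_eq_mul.mpr (h _ (Additive.toMul a).2).eq
  -- elements of coprime order fixing `Ω` fix `S`
  have hfix : ∀ g : X, (orderOf g).Coprime q → g ∈ ρ.ker → g = 1 := by
    intro g hg hgk
    refine hself g hg fun s hs => ?_
    obtain ⟨k, hk⟩ := hSp ⟨s, hs⟩
    have hk' : s ^ q ^ k = 1 := congrArg Subtype.val hk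
    clear hk
    induction k generalizing s with
    | zero =>
      rw [pow_zero, pow_one] at hk'
      rw [hk']; exact Commute.one_right g
    | succ k ih =>
      have h1 : Commute g (s ^ q) := ih (s ^ q) (pow_mem hs q) (by rw [← pow_mul, ← pow_succ']; exact hk')
      set z := g * s * g⁻¹ * s⁻¹ with hz
      have hzS : z ∈ S := mul_mem ((inferInstance : S.Normal).conj_mem s hs g) (inv_mem hs)
      have hzq : z ^ q = 1 := by
        rw [hz, (show Commute (g * s * g⁻¹) s⁻¹ from
          hSc _ ((inferInstance : S.Normal).conj_mem s hs g) _ (inv_mem hs)).mul_pow, conj_pow,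
          h1.eq, mul_inv_cancel_right, inv_pow, mul_inv_cancel]
      have hgz : Commute g z := (hρ g).mp hgk z ⟨hzS, hzq⟩
      have hz1 := eq_one_of_conj_eq (s := s) hgz (by rw [hz]; group)
        (exists_orderOf_of_mem hSp hzS) hg
      rw [hz, mul_inv_eq_one] at hz1
      exact mul_inv_eq_iff_eq_mul.mp hz1
  have hSker : S ≤ ρ.ker := fun s hs => (hρ s).mpr fun w hw => hSc s hs w hw.1
  haveI : Group.IsSolvable ↥ρ.ker := by
    have h2 : IsPGroup q ↥ρ.ker := by
      intro g
      obtain ⟨k, m, hm, hgm⟩ := Nat.exists_eq_pow_mul_and_not_dvd (orderOf_pos (g : X)).ne' q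
        hq.out.ne_one
      refine ⟨k, Subtype.ext ?_⟩
      rw [Subgroup.coe_pow, Subgroup.coe_one]
      refine hfix _ ?_ (pow_mem g.2 _)
      have : orderOf ((g : X) ^ q ^ k) = m := by
        rw [orderOf_pow_of_dvd (pow_ne_zero _ hq.out.ne_zero) (hgm ▸ dvd_mul_right _ _), hgm,
          Nat.mul_div_cancel_left _ (pow_pos hq.out.pos k)]
      rw [this]
      exact ((hq.out.coprime_iff_not_dvd).mpr hm).symm
    haveI := h2.isNilpotent
    infer_instance
  haveI : Finite (Additive ↥Ω) := inferInstanceAs (Finite ↥Ω)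
  haveI : Group.IsSolvable ↥ρ.range := isSolvable_of_powOrbits (p := p) _ _ le_rfl ρ.range
    (fun h => by
      rw [← Subgroup.index_ker] at h
      exact hidx (h.trans (index_dvd_of_le hSker)))
    (powOrbits_range ρ fun w => by
      obtain ⟨i, hi⟩ := horb _ (Additive.toMul w).2.1
      refine ⟨i, dvd_trans (index_dvd_of_le fun c hc => ?_) hi⟩
      rw [mem_centralizer_iff'] at hc
      exact congrArg Additive.ofMul (Subtype.ext hc))
  exact Group.isSolvable_of_ker_le_range ρ.ker.subtype ρ.rangeRestrict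
    (by rw [MonoidHom.ker_rangeRestrict, Subgroup.range_subtype])

end Cfsg.Agent.Lib.PowerOrbits.Baer
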