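import Cfsg.Agent.Lib.PowerOrbits.Base
import Mathlib.Algebra.BigOperators.Pi
import Mathlib.Data.ZMod.Units
import Mathlib.Data.Fintype.Perm
import Mathlib.Tactic.LinearCombination
import Mathlib.Tactic.Ring

/-!
# Linear groups with prime-power orbits: imprimitive Sylow subgroups
-/

set_option autoImplicit false

namespace Cfsg.Agent.Lib.PowerOrbits

universe u

variable {q : ℕ} {V : Type u} [AddCommGroup V] [Module (ZMod q) V]
variable {p : ℕ} [hp : Fact p.Prime]

/-- `V` is the direct sum of the `W i`, permuted by translations of the index. -/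
structure BlockSystem (W : ZMod p → Submodule (ZMod q) V) (T : Set (V ≃ₗ[ZMod q] V)) : Prop where
  bij : Function.Bijective fun f : (i : ZMod p) → W i => ∑ i, (f i : V)
  ne_bot : ∀ i, W i ≠ ⊥
  shift : ∀ t ∈ T, ∃ c : ZMod p, ∀ i, ∀ w ∈ W i, t w ∈ W (i + c)

namespace BlockSystem

variable {W : ZMod p → Submodule (ZMod q) V} {T : Set (V ≃ₗ[ZMod q] V)} (h : BlockSystem W T)

include h

theorem eq_zero_of_mem {i j : ZMod p} (hij : i ≠ j) {x : V} (hi : x ∈ W i) (hj : x ∈ W j) :
    x = 0 := by
  classical
  have he := @h.1.1 (Pi.single i (⟨x, hi⟩ : W i)) (Pi.single j (⟨x, hj⟩ : W j)) (by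
    simp only
    rw [Fintype.sum_eq_single i (fun k hk => by simp [hk]),
      Fintype.sum_eq_single j (fun k hk => by simp [hk])]
    simp)
  have h1 := congrFun he i
  rw [Pi.single_eq_same, Pi.single_eq_of_ne hij] at h1
  simpa using congrArg Subtype.val h1

theorem eq_zero_of_add_mem {i j k : ZMod p} (hij : i ≠ j) {x y : V} (hx : x ∈ W i)
    (hy : y ∈ W j) (hk : x + y ∈ W k) : x = 0 ∨ y = 0 := by
  classical
  have he := @h.1.1 (Pi.single i (⟨x, hx⟩ : W i) + Pi.single j (⟨y, hy⟩ : W j))
    (Pi.single k (⟨x + y, hk⟩ : W k)) (by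
      simp only [Pi.add_apply, Submodule.coe_add, Finset.sum_add_distrib]
      rw [Fintype.sum_eq_single i (fun l hl => by simp [hl]),
        Fintype.sum_eq_single j (fun l hl => by simp [hl]),
        Fintype.sum_eq_single k (fun l hl => by simp [hl])]
      simp)
  by_cases hik : k = i
  · right
    have h1 := congrFun he j
    rw [Pi.add_apply, Pi.single_eq_same, Pi.single_eq_of_ne hij.symm,
      Pi.single_eq_of_ne (hik ▸ hij.symm : j ≠ k), zero_add] at h1
    simpa using congrArg Subtype.val h1
  · left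
    have h1 := congrFun he i
    rw [Pi.add_apply, Pi.single_eq_same, Pi.single_eq_of_ne hij,
      Pi.single_eq_of_ne (Ne.symm hik), add_zero] at h1
    simpa using congrArg Subtype.val h1

/-- Two-term decompositions are unique. -/
theorem mem_pair {i j a b : ZMod p} {x y x' y' : V} (hx : x ∈ W i) (hy : y ∈ W j)
    (hx' : x' ∈ W a) (hy' : y' ∈ W b) (hx0 : x ≠ 0) (hij : i ≠ j)
    (he : x + y = x' + y') : i = a ∨ i = b := by
  classical
  by_contra hcon
  push Not at hcon
  have h0 := @h.1.1 (Pi.single i (⟨x, hx⟩ : W i) + Pi.single j (⟨y, hy⟩ : W j))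
    (Pi.single a (⟨x', hx'⟩ : W a) + Pi.single b (⟨y', hy'⟩ : W b)) (by
      simp only [Pi.add_apply, Submodule.coe_add, Finset.sum_add_distrib]
      rw [Fintype.sum_eq_single i (fun l hl => by simp [hl]),
        Fintype.sum_eq_single j (fun l hl => by simp [hl]),
        Fintype.sum_eq_single a (fun l hl => by simp [hl]),
        Fintype.sum_eq_single b (fun l hl => by simp [hl])]
      simp [he])
  have h1 := congrFun h0 i
  rw [Pi.add_apply, Pi.add_apply, Pi.single_eq_same, Pi.single_eq_of_ne hij,
    Pi.single_eq_of_ne hcon.1, Pi.single_eq_of_ne hcon.2, add_zero, add_zero] at h1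
  exact hx0 (by simpa using congrArg Subtype.val h1)

theorem exists_ne_zero (i : ZMod p) : ∃ w ∈ W i, w ≠ 0 :=
  Submodule.exists_mem_ne_zero_of_ne_bot (h.2 i)

end BlockSystem

/-- A perfect group with the orbits of a block-translating group is not irreducible. -/
theorem false_of_blocks {H : Subgroup (V ≃ₗ[ZMod q] V)} [Finite ↥H]
    (hperf : commutator ↥H = ⊤)
    (hirr : ∀ U : Submodule (ZMod q) V, (∀ g : ↥H, ∀ x ∈ U, g • x ∈ U) → U = ⊥ ∨ U = ⊤)
    {T : Set (V ≃ₗ[ZMod q] V)} (horb : ∀ (g : ↥H) (v : V), ∃ t ∈ T, g • v = t v)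
    {W : ZMod p → Submodule (ZMod q) V} (h : BlockSystem W T) : False := by
  classical
  choose w0 hw0 hw0' using h.exists_ne_zero
  -- every element permutes the summands
  have hex : ∀ (g : ↥H) (i : ZMod p), ∃ j, g • w0 i ∈ W j := fun g i => by
    obtain ⟨t, ht, he⟩ := horb g (w0 i)
    obtain ⟨c, hc⟩ := h.shift t ht
    exact ⟨i + c, he ▸ hc i _ (hw0 i)⟩
  choose σ hσ using hex
  have hmaps : ∀ (g : ↥H) (i : ZMod p) (x : V), x ∈ W i → g • x ∈ W (σ g i) := by
    intro g i x hx
    by_cases hx0 : x = 0
    · subst hx0; rw [smul_zero]; exact zero_mem _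
    obtain ⟨t, ht, he⟩ := horb g x
    obtain ⟨c, hc⟩ := h.shift t ht
    obtain ⟨t', ht', he'⟩ := horb g (x + w0 i)
    obtain ⟨c', hc'⟩ := h.shift t' ht'
    have h1 : g • x ∈ W (i + c) := he ▸ hc i x hx
    by_cases hij : i + c = σ g i
    · exact hij ▸ h1
    exfalso
    have h2 : g • x + g • w0 i ∈ W (i + c') := by
      rw [← smul_add, he']; exact hc' i _ (add_mem hx (hw0 i))
    rcases h.eq_zero_of_add_mem hij h1 (hσ g i) h2 with h3 | h3
    · exact hx0 ((smul_eq_zero_iff_eq g).mp h3)
    · exact hw0' i ((smul_eq_zero_iff_eq g).mp h3)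
  have hunique : ∀ (g : ↥H) (i j : ZMod p), g • w0 i ∈ W j → σ g i = j := by
    intro g i j hj
    by_contra hne
    exact hw0' i ((smul_eq_zero_iff_eq g).mp (h.eq_zero_of_mem hne (hσ g i) hj))
  have hone : ∀ i, σ 1 i = i := fun i => hunique 1 i i (by rw [one_smul]; exact hw0 i)
  have hmul : ∀ g k i, σ (g * k) i = σ g (σ k i) := fun g k i => hunique _ _ _ (by
    rw [mul_smul]; exact hmaps g _ _ (hσ k i))
  let f : ↥H →* Equiv.Perm (ZMod p) :=
    { toFun := fun g => ⟨σ g, σ g⁻¹, fun i => by rw [← hmul, inv_mul_cancel, hone],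
        fun i => by rw [← hmul, mul_inv_cancel, hone]⟩
      map_one' := Equiv.ext hone
      map_mul' := fun g k => Equiv.ext fun i => hmul g k i }
  -- the image is trivial
  have htriv : ∀ g i, σ g i = i := by
    by_cases hp2 : p = 2
    · subst hp2
      haveI : Group.IsSolvable (Equiv.Perm (ZMod 2)) := Group.isSolvable_of_comm (by decide)
      intro g i
      exact Equiv.congr_fun (DFunLike.congr_fun (hom_eq_one_of_perfect hperf f) g) i
    have h20 : (2 : ZMod p) ≠ 0 := by
      intro h2
      have : (p : ℕ) ∣ 2 := (ZMod.natCast_eq_zero_iff 2 p).mp (by exact_mod_cast h2)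
      exact hp2 ((Nat.prime_dvd_prime_iff_eq hp.out Nat.prime_two).mp this)
    have hinj : ∀ g, Function.Injective (σ g) := fun g => (f g).injective
    have hedge : ∀ g i, σ g (i + 1) - σ g i = 1 ∨ σ g (i + 1) - σ g i = -1 := by
      intro g i
      obtain ⟨t, ht, he⟩ := horb g (w0 i + w0 (i + 1))
      obtain ⟨c, hc⟩ := h.shift t ht
      rw [smul_add, map_add] at he
      have hne : σ g i ≠ σ g (i + 1) := fun e => by
        have := hinj g e
        simp at this
      have hA := hσ g i
      have hB := hσ g (i + 1)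
      have hA' := hc i _ (hw0 i)
      have hB' := hc (i + 1) _ (hw0 (i + 1))
      have h1 := h.mem_pair hA hB hA' hB' (fun e => hw0' i ((smul_eq_zero_iff_eq g).mp e)) hne he
      have h2 := h.mem_pair hB hA hA' hB'
        (fun e => hw0' (i + 1) ((smul_eq_zero_iff_eq g).mp e)) hne.symm
        (by rw [add_comm]; exact he)
      rcases h1 with h1 | h1 <;> rcases h2 with h2 | h2
      · exact absurd (h1.trans h2.symm) hne
      · left; rw [h1, h2]; ring
      · right; rw [h1, h2]; ring
      · exact absurd (h1.trans h2.symm) hne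
    -- the sign is constant
    have hconst : ∀ g i, σ g (i + 1) - σ g i = σ g 1 - σ g 0 := by
      intro g
      have hstep : ∀ i, σ g (i + 1 + 1) - σ g (i + 1) = σ g (i + 1) - σ g i := by
        intro i
        have hsq : i + 1 + 1 ≠ i := fun e => h20 (by linear_combination e)
        have hne2 : σ g (i + 1 + 1) - σ g i ≠ 0 := sub_ne_zero.mpr fun e => hsq (hinj g e)
        rcases hedge g (i + 1) with e1 | e1 <;> rcases hedge g i with e2 | e2
        · rw [e1, e2]
        · exact absurd (by linear_combination e1 + e2) hne2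
        · exact absurd (by linear_combination e1 + e2) hne2
        · rw [e1, e2]
      intro i
      have hn : ∀ n : ℕ, σ g ((n : ZMod p) + 1) - σ g (n : ZMod p) = σ g 1 - σ g 0 := by
        intro n
        induction n with
        | zero => simp
        | succ n ih => rw [Nat.cast_succ, hstep, ih]
      have := hn i.val
      rwa [ZMod.natCast_zmod_val] at this
    set ε : ↥H → ZMod p := fun g => σ g 1 - σ g 0 with hε
    have haff : ∀ g i, σ g i = σ g 0 + ε g * i := by
      intro g i
      have hn : ∀ n : ℕ, σ g (n : ZMod p) = σ g 0 + ε g * n := by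
        intro n
        induction n with
        | zero => simp
        | succ n ih =>
          have := hconst g (n : ZMod p)
          rw [Nat.cast_succ]
          linear_combination this + ih
      have := hn i.val
      rwa [ZMod.natCast_zmod_val] at this
    have hεmul : ∀ g k, ε (g * k) = ε g * ε k := by
      intro g k
      show σ (g * k) 1 - σ (g * k) 0 = ε g * ε k
      rw [hmul, hmul, haff g (σ k 1), haff g (σ k 0)]
      show _ = ε g * (σ k 1 - σ k 0)
      ring
    let e : ↥H →* ZMod p := { toFun := ε, map_one' := by simp [hε, hone], map_mul' := hεmul }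
    have he1 : ∀ g, ε g = 1 := fun g =>
      congrArg Units.val (DFunLike.congr_fun (hom_eq_one_of_perfect hperf e.toHomUnits) g)
    let c : ↥H →* Multiplicative (ZMod p) :=
      { toFun := fun g => Multiplicative.ofAdd (σ g 0)
        map_one' := by rw [hone]; rfl
        map_mul' := fun g k => by
          rw [hmul, haff g (σ k 0), he1, one_mul, ofAdd_add] }
    have hc1 : ∀ g, σ g 0 = 0 := fun g =>
      Multiplicative.ofAdd.injective (DFunLike.congr_fun (hom_eq_one_of_perfect hperf c) g)
    intro g i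
    rw [haff, hc1, he1, zero_add, one_mul]
  rcases hirr (W 0) (fun g x hx => htriv g 0 ▸ hmaps g 0 x hx) with h0 | h0
  · exact h.ne_bot 0 h0
  · obtain ⟨w, hw, hw'⟩ := h.exists_ne_zero 1
    exact hw' (h.eq_zero_of_mem (i := 1) (j := 0) one_ne_zero hw (h0 ▸ Submodule.mem_top))

end Cfsg.Agent.Lib.PowerOrbits
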