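import Cfsg.Agent.Lib.PowerOrbits.Field
import Cfsg.Agent.Lib.Frobenius.UniqueSubgroup

/-!
# Irreducible cyclic p-groups: imprimitive unless the field is small
-/

set_option autoImplicit false

namespace Cfsg.Agent.Lib.PowerOrbits

open Module

universe u

variable {q : ℕ} [hq : Fact q.Prime] {V : Type u} [AddCommGroup V] [Module (ZMod q) V] [Finite V]
  [Nontrivial V] {p : ℕ} [hp : Fact p.Prime]

/-- The order of `q` grows at most by the factor `p` from `p ^ k` to `p ^ (k + 1)`. -/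
theorem pow_mul_prime_eq_one {k : ℕ} (hk : 0 < k) {x : ℤ} (hx : (p : ℤ) ^ k ∣ x - 1) :
    (p : ℤ) ^ (k + 1) ∣ x ^ p - 1 := by
  rw [← geom_sum_mul, pow_succ, mul_comm ((p : ℤ) ^ k)]
  refine mul_dvd_mul ?_ hx
  have h1 : (x : ZMod p) = 1 := by
    have := (ZMod.intCast_zmod_eq_zero_iff_dvd (x - 1) p).mpr ((dvd_pow_self _ hk.ne').trans hx)
    push_cast at this
    exact sub_eq_zero.mp this
  rw [← ZMod.intCast_zmod_eq_zero_iff_dvd]
  push_cast
  rw [h1]
  simp

theorem natCast_pow_eq_one_iff {N : ℕ} (d : ℕ) :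
    (q : ZMod N) ^ d = 1 ↔ (N : ℤ) ∣ (q : ℤ) ^ d - 1 := by
  rw [← ZMod.intCast_zmod_eq_zero_iff_dvd, Int.cast_sub, Int.cast_pow, Int.cast_natCast,
    Int.cast_one, sub_eq_zero]

theorem orderOf_dvd_mul {k : ℕ} (hk : 0 < k) :
    orderOf (q : ZMod (p ^ (k + 1))) ∣ orderOf (q : ZMod (p ^ k)) * p := by
  refine orderOf_dvd_of_pow_eq_one ((natCast_pow_eq_one_iff _).mpr ?_)
  have h := (natCast_pow_eq_one_iff _).mp (pow_orderOf_eq_one (q : ZMod (p ^ k)))
  push_cast at h ⊢
  rw [pow_mul]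
  exact pow_mul_prime_eq_one hk h

theorem orderOf_dvd_succ (k : ℕ) :
    orderOf (q : ZMod (p ^ k)) ∣ orderOf (q : ZMod (p ^ (k + 1))) := by
  refine orderOf_dvd_of_pow_eq_one ((natCast_pow_eq_one_iff _).mpr ?_)
  have h := (natCast_pow_eq_one_iff _).mp (pow_orderOf_eq_one (q : ZMod (p ^ (k + 1))))
  push_cast at h ⊢
  exact (pow_dvd_pow _ (Nat.le_succ k)).trans h

namespace CyclicModel

variable {a : V ≃ₗ[ZMod q] V} {E : Type} [Field E] [Algebra (ZMod q) E] (M : CyclicModel a E)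

include M

/-- Either the powers of `a` translate a block system, or the order of `q` is stable. -/
theorem blocks_or_stable {k : ℕ} (hk : 0 < k) (ha : orderOf a = p ^ (k + 1)) :
    (∃ W : ZMod p → Submodule (ZMod q) V, BlockSystem W {t | ∃ j : ℕ, t = a ^ j}) ∨
      orderOf (q : ZMod (p ^ (k + 1))) = orderOf (q : ZMod (p ^ k)) := by
  classical
  haveI : Finite E := Finite.of_injective _ M.bij.1
  haveI : Module.Finite (ZMod q) V := Module.Finite.of_finite
  haveI : NeZero p := ⟨hp.out.ne_zero⟩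
  set d := orderOf (q : ZMod (p ^ k)) with hd
  by_cases hde : orderOf (q : ZMod (p ^ (k + 1))) = d
  · exact Or.inr hde
  left
  have hα : orderOf M.α = p ^ (k + 1) := M.orderOf_α.trans ha
  have he : Module.finrank (ZMod q) V = d * p := by
    rw [M.finrank_eq_orderOf, hα]
    have h1 := orderOf_dvd_mul (q := q) (p := p) hk
    obtain ⟨c, hc⟩ := orderOf_dvd_succ (q := q) (p := p) k
    rw [hc] at h1 hde ⊢
    have hdpos : 0 < d := Nat.pos_of_ne_zero fun h0 => hde (by rw [hd] at h0; rw [hd, h0, zero_mul])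
    rcases (Nat.dvd_prime hp.out).mp ((Nat.mul_dvd_mul_iff_left hdpos).mp h1) with rfl | rfl
    · exact absurd (mul_one _) hde
    · rfl
  have hdpos : 0 < d := by
    rcases Nat.eq_zero_or_pos d with h0 | h0
    · have := Module.finrank_pos (R := ZMod q) (M := V)
      rw [he, h0, zero_mul] at this
      exact absurd this (lt_irrefl 0)
    · exact h0
  set Sd := fixedSub (q := q) E d with hSd
  have hα0 : M.α ≠ 0 := by
    intro h
    rw [h, orderOf_zero] at hα
    exact absurd hα.symm (pow_ne_zero _ hp.out.ne_zero)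
  have hαp : M.α ^ p ∈ Sd := by
    rw [hSd, mem_fixedSub, pow_eq_self_iff (pow_ne_zero _ hα0) _ (pow_pos hq.out.pos d),
      orderOf_pow_of_dvd hp.out.ne_zero (hα ▸ dvd_pow_self p (Nat.succ_ne_zero k)), hα, pow_succ,
      Nat.mul_div_cancel _ hp.out.pos, Nat.cast_pow]
    exact pow_orderOf_eq_one _
  let L : ℕ → (E →ₗ[ZMod q] V) := fun i =>
    { toFun := fun s => M.φ (M.α ^ i * s) M.v₀
      map_add' := fun x y => by rw [mul_add, map_add, LinearMap.add_apply]
      map_smul' := fun r x => by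
        rw [Algebra.mul_smul_comm, map_smul, LinearMap.smul_apply, RingHom.id_apply] }
  let W : ZMod p → Submodule (ZMod q) V := fun i => (Subalgebra.toSubmodule Sd).map (L i.val)
  refine ⟨W, ⟨?_, ?_, ?_⟩⟩
  · -- spanning and counting
    let Mset : Submodule (ZMod q) E :=
      ⨆ i : ZMod p, (Subalgebra.toSubmodule Sd).map (LinearMap.mulLeft (ZMod q) (M.α ^ i.val))
    have hαM : ∀ y ∈ Mset, M.α * y ∈ Mset := by
      intro y hy
      induction hy using Submodule.iSup_induction' with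
      | mem i x hx =>
        obtain ⟨s, hs, rfl⟩ := hx
        obtain ⟨l, hl⟩ : ∃ l, i.val + 1 = (i + 1).val + p * l := by
          refine ⟨(i.val + 1) / p, ?_⟩
          rw [ZMod.val_add, ZMod.val_one p]
          exact (Nat.mod_add_div _ _).symm
        refine Submodule.mem_iSup_of_mem (i + 1) ⟨(M.α ^ p) ^ l * s, Sd.mul_mem (pow_mem hαp l) hs, ?_⟩
        rw [LinearMap.mulLeft_apply, LinearMap.mulLeft_apply, ← mul_assoc, ← mul_assoc, ← pow_succ',
          hl, pow_add, pow_mul]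
      | zero => rw [mul_zero]; exact zero_mem _
      | add x y _ _ hx hy => rw [mul_add]; exact add_mem hx hy
    have hall : ∀ x : E, ∀ y ∈ Mset, x * y ∈ Mset := by
      intro x
      have hx : x ∈ Algebra.adjoin (ZMod q) ({M.α} : Set E) := M.gen ▸ Algebra.mem_top
      induction hx using Algebra.adjoin_induction with
      | mem x hx => rw [Set.mem_singleton_iff] at hx; subst hx; exact hαM
      | algebraMap r =>
        intro y hy
        rw [← Algebra.smul_def]
        exact Submodule.smul_mem _ r hy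
      | add x y _ _ hx hy => intro z hz; rw [add_mul]; exact add_mem (hx z hz) (hy z hz)
      | mul x y _ _ hx hy => intro z hz; rw [mul_assoc]; exact hx _ (hy z hz)
    have h1M : (1 : E) ∈ Mset :=
      Submodule.mem_iSup_of_mem 0 ⟨1, Sd.one_mem, by simp⟩
    have hsurj : Function.Surjective fun f : (i : ZMod p) → W i => ∑ i, (f i : V) := by
      intro v
      obtain ⟨x, rfl⟩ := M.bij.2 v
      have hxM : x ∈ Mset := by simpa using hall x 1 h1M
      induction hxM using Submodule.iSup_induction' with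
      | mem i y hy =>
        obtain ⟨s, hs, rfl⟩ := hy
        refine ⟨Pi.single i ⟨L i.val s, ⟨s, hs, rfl⟩⟩, ?_⟩
        show ∑ j, ((Pi.single i (⟨L i.val s, _⟩ : W i) : (j : ZMod p) → W j) j : V) = _
        rw [Fintype.sum_eq_single i (fun j hj => by simp [hj]), Pi.single_eq_same]
        rfl
      | zero => exact ⟨0, by simp⟩
      | add y z _ _ hy hz =>
        obtain ⟨f, hf⟩ := hy
        obtain ⟨g, hg⟩ := hz
        refine ⟨f + g, ?_⟩
        simp only [Pi.add_apply, Submodule.coe_add, Finset.sum_add_distrib] at hf hg ⊢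
        rw [hf, hg, map_add, LinearMap.add_apply]
    haveI : ∀ i, Finite ↥(W i) := fun i => inferInstance
    refine hsurj.bijective_of_nat_card_le ?_
    rw [Nat.card_pi, Module.natCard_eq_pow_finrank (K := ZMod q) (V := V), he, Nat.card_zmod,
      pow_mul]
    refine (Finset.prod_le_pow_card _ _ (q ^ d) fun i _ => ?_).trans (le_of_eq (by simp))
    refine le_trans ?_ (card_fixedSub_le (q := q) (E := E) hdpos)
    exact Nat.card_le_card_of_surjective
      (fun s : Sd => (⟨L i.val s, ⟨(s : E), s.2, rfl⟩⟩ : W i))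
      (fun ⟨w, s, hs, hw⟩ => ⟨⟨s, hs⟩, Subtype.ext hw⟩)
  · intro i h
    have h1 : L i.val 1 ∈ W i := ⟨1, Sd.one_mem, rfl⟩
    rw [h, Submodule.mem_bot] at h1
    have h2 : M.φ (M.α ^ i.val * 1) M.v₀ = M.φ 0 M.v₀ := by
      rw [map_zero, LinearMap.zero_apply]; exact h1
    have h3 := M.bij.1 h2
    rw [mul_one] at h3
    exact pow_ne_zero _ hα0 h3
  · rintro t ⟨j, rfl⟩
    refine ⟨(j : ZMod p), fun i w hw => ?_⟩
    obtain ⟨s, hs, rfl⟩ := hw
    obtain ⟨l, hl⟩ : ∃ l, j + i.val = (i + (j : ZMod p)).val + p * l := by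
      refine ⟨(j + i.val) / p, ?_⟩
      rw [ZMod.val_add, ZMod.val_natCast, Nat.add_mod_mod, add_comm i.val j]
      exact (Nat.mod_add_div _ _).symm
    refine ⟨(M.α ^ p) ^ l * s, Sd.mul_mem (pow_mem hαp l) hs, ?_⟩
    show M.φ (M.α ^ (i + (j : ZMod p)).val * ((M.α ^ p) ^ l * s)) M.v₀
      = (a ^ j) (M.φ (M.α ^ i.val * s) M.v₀)
    rw [← mul_assoc, ← pow_mul, ← pow_add, ← hl, pow_add, mul_assoc, map_mul, M.φ_pow]
    rfl

/-- For odd `p`, without blocks the dimension divides `p - 1`. -/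
theorem finrank_dvd_of_not_blocks (hp2 : p ≠ 2) {k : ℕ} (ha : orderOf a = p ^ (k + 1))
    (hnb : ¬ ∃ W : ZMod p → Submodule (ZMod q) V, BlockSystem W {t | ∃ j : ℕ, t = a ^ j})
    (hpq : p ≠ q) : Module.finrank (ZMod q) V ∣ p - 1 := by
  have hbase : orderOf (q : ZMod (p ^ 1)) ∣ p - 1 := by
    rw [pow_one]
    refine orderOf_dvd_of_pow_eq_one (ZMod.pow_card_sub_one_eq_one ?_)
    intro h0
    rw [ZMod.natCast_eq_zero_iff] at h0
    exact hpq ((Nat.prime_dvd_prime_iff_eq hp.out hq.out).mp h0)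
  rw [M.finrank_eq_orderOf, M.orderOf_α, ha]
  rcases Nat.eq_zero_or_pos k with rfl | hk
  · exact hbase
  have hst := (M.blocks_or_stable hk ha).resolve_left hnb
  -- stability at the top propagates downwards
  have hdown : ∀ j, 1 ≤ j → j ≤ k →
      orderOf (q : ZMod (p ^ (j + 1))) = orderOf (q : ZMod (p ^ j)) := by
    intro j hj1 hjk
    induction hjk using Nat.decreasingInduction with
    | self => exact hst
    | of_succ i hi ih =>
      have hst' := ih (by omega)
      set e := orderOf (q : ZMod (p ^ (i + 1 + 1))) with he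
      refine Nat.dvd_antisymm ?_ (orderOf_dvd_succ i)
      refine orderOf_dvd_of_pow_eq_one ((natCast_pow_eq_one_iff _).mpr ?_)
      set d := orderOf (q : ZMod (p ^ i)) with hd
      have hd1 := (natCast_pow_eq_one_iff _).mp (pow_orderOf_eq_one (q : ZMod (p ^ i)))
      push_cast at hd1 ⊢
      -- `q ^ (d * p)` is `1` modulo `p ^ (i + 2)` only if `q ^ d` is `1` modulo `p ^ (i + 1)`
      have hdp : e ∣ d * p := hst' ▸ orderOf_dvd_mul (by omega)
      have h2 := (natCast_pow_eq_one_iff (N := p ^ (i + 1 + 1)) _).mp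
        (orderOf_dvd_iff_pow_eq_one.mp hdp)
      push_cast at h2
      rw [pow_mul] at h2
      obtain ⟨s, hs, hps⟩ := Frobenius.geom_sum_modEq_of_dvd hp.out hp2
        ((dvd_pow_self _ (by omega : i ≠ 0)).trans hd1)
      rw [← geom_sum_mul, hs, pow_succ, mul_comm ((p : ℤ) ^ (i + 1)), mul_assoc] at h2
      have h3 := Int.dvd_of_mul_dvd_mul_left (by exact_mod_cast hp.out.ne_zero) h2
      exact (((Nat.prime_iff_prime_int.mp hp.out).coprime_iff_not_dvd.mpr hps).pow_left
        (m := i + 1)).dvd_of_dvd_mul_left h3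
  have hall : ∀ j, j ≤ k → orderOf (q : ZMod (p ^ (j + 1))) ∣ p - 1 := by
    intro j hj
    induction j with
    | zero => exact hbase
    | succ j ih => rw [hdown (j + 1) (by omega) hj]; exact ih (by omega)
  exact hall k le_rfl

/-- For `p = 2`, without blocks the dimension is at most two. -/
theorem finrank_le_two_of_not_blocks (hp2 : p = 2) {k : ℕ} (ha : orderOf a = p ^ (k + 1))
    (hnb : ¬ ∃ W : ZMod p → Submodule (ZMod q) V, BlockSystem W {t | ∃ j : ℕ, t = a ^ j})
    (hpq : p ≠ q) : Module.finrank (ZMod q) V ≤ 2 := by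
  subst hp2
  rw [M.finrank_eq_orderOf, M.orderOf_α, ha]
  have hodd : ¬ 2 ∣ q := fun h => hpq ((Nat.prime_dvd_prime_iff_eq Nat.prime_two hq.out).mp h)
  rcases Nat.lt_or_ge k 2 with hk | hk
  · refine Nat.le_of_dvd two_pos (orderOf_dvd_of_pow_eq_one ((natCast_pow_eq_one_iff _).mpr ?_))
    push_cast
    refine (pow_dvd_pow (2 : ℤ) (show k + 1 ≤ 3 by omega)).trans ?_
    obtain ⟨c, hc⟩ : Odd q := Nat.not_even_iff_odd.mp fun h => hodd (even_iff_two_dvd.mp h)
    obtain ⟨r, hr⟩ := Int.even_mul_succ_self (c : ℤ)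
    exact ⟨r, by rw [hc]; push_cast; linear_combination (4 : ℤ) * hr⟩
  have hst := (M.blocks_or_stable (by omega : 0 < k) ha).resolve_left hnb
  set e := orderOf (q : ZMod (2 ^ (k + 1))) with he
  by_contra hlt
  push Not at hlt
  have hsq8 : ∀ y : ℤ, Odd y → (8 : ℤ) ∣ y ^ 2 - 1 := by
    rintro y ⟨c, rfl⟩
    obtain ⟨r, hr⟩ := Int.even_mul_succ_self c
    exact ⟨r, by linear_combination (4 : ℤ) * hr⟩
  have hqz : Odd (q : ℤ) := by
    exact_mod_cast (Nat.not_even_iff_odd.mp fun h => hodd (even_iff_two_dvd.mp h))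
  -- `e` is a power of two
  obtain ⟨b, -, hb⟩ : ∃ b, b ≤ k + 1 ∧ e = 2 ^ b := by
    refine (Nat.dvd_prime_pow Nat.prime_two).mp (orderOf_dvd_of_pow_eq_one ?_)
    rw [natCast_pow_eq_one_iff]
    push_cast
    have : ∀ j : ℕ, (2 : ℤ) ^ (j + 1) ∣ (q : ℤ) ^ 2 ^ j - 1 := by
      intro j
      induction j with
      | zero => obtain ⟨c, hc⟩ := hqz; exact ⟨c, by rw [hc]; ring⟩
      | succ j ih =>
        have h := pow_mul_prime_eq_one (p := 2) (Nat.succ_pos j) (x := (q : ℤ) ^ 2 ^ j)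
          (by simpa using ih)
        rw [pow_succ 2 j, pow_mul]
        simpa using h
    exact (pow_dvd_pow _ (Nat.le_succ _)).trans (this (k + 1))
  obtain ⟨b, rfl⟩ : ∃ b', b = b' + 2 := ⟨b - 2, by
    rcases b with _ | _ | b
    · rw [hb] at hlt; norm_num at hlt
    · rw [hb] at hlt; norm_num at hlt
    · omega⟩
  set x : ℤ := (q : ℤ) ^ 2 ^ (b + 1) with hx
  have hx8 : (8 : ℤ) ∣ x - 1 := by
    rw [hx, pow_succ, pow_mul]; exact hsq8 _ (hqz.pow)
  have hx2 : (2 : ℤ) ^ (k + 1) ∣ (x + 1) * (x - 1) := by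
    have h := (natCast_pow_eq_one_iff (N := 2 ^ (k + 1)) _).mp (pow_orderOf_eq_one (q : ZMod (2 ^ (k + 1))))
    push_cast at h
    rw [← he, hb, show 2 ^ (b + 2) = 2 ^ (b + 1) * 2 from pow_succ 2 (b + 1), pow_mul, ← hx] at h
    rwa [show (x + 1) * (x - 1) = x ^ 2 - 1 by ring]
  obtain ⟨c, hc⟩ := hx8
  have hx1 : x + 1 = 2 * (4 * c + 1) := by linarith
  rw [hx1, pow_succ', mul_assoc] at hx2
  have h3 := Int.dvd_of_mul_dvd_mul_left two_ne_zero hx2
  have h4 : (2 : ℤ) ^ k ∣ x - 1 := by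
    refine (IsCoprime.pow_left ?_).dvd_of_dvd_mul_left h3
    exact ⟨-2 * c, 1, by ring⟩
  have h5 : orderOf (q : ZMod (2 ^ k)) ∣ 2 ^ (b + 1) :=
    orderOf_dvd_of_pow_eq_one ((natCast_pow_eq_one_iff _).mpr (by push_cast; exact h4))
  rw [← hst, hb] at h5
  have h6 := Nat.le_of_dvd (Nat.two_pow_pos _) h5
  have h7 := Nat.pow_lt_pow_right one_lt_two (show b + 1 < b + 2 by omega)
  omega

end CyclicModel

end Cfsg.Agent.Lib.PowerOrbits
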