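import Cfsg.Agent.Lib.PowerOrbits.Blocks
import Mathlib.RingTheory.AdjoinRoot
import Mathlib.RingTheory.IntegralClosure.IsIntegralClosure.Basic
import Mathlib.FieldTheory.Minpoly.Field
import Mathlib.FieldTheory.Finite.Basic
import Mathlib.Algebra.CharP.Frobenius

/-!
# An irreducible cyclic linear group is multiplication in a finite field
-/

set_option autoImplicit false

namespace Cfsg.Agent.Lib.PowerOrbits

open Polynomial Module

universe u

variable {q : ℕ} [hq : Fact q.Prime] {V : Type u} [AddCommGroup V] [Module (ZMod q) V]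

/-- `V` is the field `E`, with `a` acting as multiplication by `α`. -/
structure CyclicModel (a : V ≃ₗ[ZMod q] V) (E : Type) [Field E] [Algebra (ZMod q) E] where
  /-- The action. -/
  φ : E →ₐ[ZMod q] Module.End (ZMod q) V
  /-- The image of `a`. -/
  α : E
  /-- A generator of the module. -/
  v₀ : V
  φ_α : φ α = (a : V →ₗ[ZMod q] V)
  gen : Algebra.adjoin (ZMod q) ({α} : Set E) = ⊤
  bij : Function.Bijective fun e => φ e v₀

theorem exists_cyclicModel [Finite V] [Nontrivial V] (a : V ≃ₗ[ZMod q] V)
    (hirr : ∀ U : Submodule (ZMod q) V, (∀ x ∈ U, a x ∈ U) → U = ⊥ ∨ U = ⊤) :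
    ∃ (E : Type) (_ : Field E) (_ : Algebra (ZMod q) E) (_ : Finite E),
      Nonempty (CyclicModel a E) := by
  haveI : Module.Finite (ZMod q) V := Module.Finite.of_finite
  set A : Module.End (ZMod q) V := (a : V →ₗ[ZMod q] V) with hA
  have hint : IsIntegral (ZMod q) A := IsIntegral.of_finite (ZMod q) A
  set m := minpoly (ZMod q) A with hm
  have hm0 : m ≠ 0 := minpoly.ne_zero hint
  have hcomm : ∀ f : (ZMod q)[X], ∀ x, aeval A f (a x) = a (aeval A f x) := fun f x => by
    have h := congrArg (aeval A) ((commute_X f).eq)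
    rw [map_mul, map_mul, aeval_X] at h
    exact (LinearMap.congr_fun h x).symm
  have hdiv : ∀ f g : (ZMod q)[X], m = f * g → IsUnit g ∨ m ∣ g := by
    intro f g hfg
    have h0 : aeval A f * aeval A g = 0 := by rw [← map_mul, ← hfg, hm, minpoly.aeval]
    rcases hirr (LinearMap.ker (aeval A f)) (fun x hx => by
      rw [LinearMap.mem_ker] at hx ⊢
      rw [hcomm, hx, map_zero]) with h | h
    · right
      refine minpoly.dvd _ _ (LinearMap.ext fun x => ?_)
      exact (LinearMap.ker_eq_bot.mp h) (by
        rw [LinearMap.zero_apply, map_zero]; exact LinearMap.congr_fun h0 x)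
    · left
      have hmf : m ∣ f := minpoly.dvd _ _ (LinearMap.ker_eq_top.mp h)
      obtain ⟨r, hr⟩ := hmf
      refine IsUnit.of_mul_eq_one r ?_
      have : m * (g * r) = m * 1 := by
        rw [mul_one]
        calc m * (g * r) = (m * r) * g := by ring
          _ = m := by rw [← hr, hfg]
      exact mul_left_cancel₀ hm0 this
  have hirrm : Irreducible m := by
    refine ⟨minpoly.not_isUnit _ _, fun f g hfg => ?_⟩
    rcases hdiv f g hfg with h | h
    · exact Or.inr h
    · rcases hdiv g f (by rw [hfg, mul_comm]) with h' | h'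
      · exact Or.inl h'
      · left
        obtain ⟨r, hr⟩ := h
        refine IsUnit.of_mul_eq_one r ?_
        have : m * (f * r) = m * 1 := by
          rw [mul_one]
          calc m * (f * r) = f * (m * r) := by ring
            _ = m := by rw [← hr, ← hfg]
        exact mul_left_cancel₀ hm0 this
  haveI := Fact.mk hirrm
  let φr : AdjoinRoot m →+* Module.End (ZMod q) V :=
    Ideal.Quotient.lift (Ideal.span {m}) (aeval A).toRingHom fun f hf => by
      obtain ⟨g, rfl⟩ := Ideal.mem_span_singleton.mp hf
      show aeval A (m * g) = 0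
      rw [map_mul, hm, minpoly.aeval, zero_mul]
  let φ : AdjoinRoot m →ₐ[ZMod q] Module.End (ZMod q) V :=
    { φr with commutes' := fun r => aeval_C A r }
  have hφmk : ∀ f : (ZMod q)[X], φ (AdjoinRoot.mk m f) = aeval A f := fun f => rfl
  haveI : Nontrivial (Module.End (ZMod q) V) := inferInstance
  have hφinj : Function.Injective φ := φ.toRingHom.injective
  haveI : Finite (Module.End (ZMod q) V) :=
    Finite.of_injective (fun f => (f : V → V)) DFunLike.coe_injective
  have hfinE : Finite (AdjoinRoot m) := Finite.of_injective φ hφinj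
  obtain ⟨v₀, hv₀⟩ := exists_ne (0 : V)
  have hα : φ (AdjoinRoot.root m) = A := by
    rw [← AdjoinRoot.mk_X, hφmk, aeval_X]
  refine ⟨AdjoinRoot m, inferInstance, inferInstance, hfinE,
    ⟨⟨φ, AdjoinRoot.root m, v₀, hα, AdjoinRoot.adjoinRoot_eq_top, ?_, ?_⟩⟩⟩
  · intro e e' hee
    have h0 : φ (e - e') v₀ = 0 := by
      rw [map_sub, LinearMap.sub_apply]; exact sub_eq_zero.mpr hee
    obtain ⟨f, hf⟩ := AdjoinRoot.mk_surjective (e - e')
    rw [← hf, hφmk] at h0
    rcases hirr (LinearMap.ker (aeval A f)) (fun x hx => by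
      rw [LinearMap.mem_ker] at hx ⊢
      rw [hcomm, hx, map_zero]) with h | h
    · exact absurd ((LinearMap.ker_eq_bot.mp h) (h0.trans (map_zero (aeval A f)).symm)) hv₀
    · have h1 : φ (e - e') = φ 0 := by
        rw [map_zero, ← hf, hφmk]; exact LinearMap.ker_eq_top.mp h
      exact sub_eq_zero.mp (hφinj h1)
  · let ev : AdjoinRoot m →ₗ[ZMod q] V :=
      { toFun := fun e => φ e v₀
        map_add' := fun x y => by rw [map_add, LinearMap.add_apply]
        map_smul' := fun r x => by rw [map_smul, LinearMap.smul_apply, RingHom.id_apply] }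
    rcases hirr (LinearMap.range ev) (fun x hx => by
      obtain ⟨e, rfl⟩ := hx
      refine ⟨AdjoinRoot.root m * e, ?_⟩
      show φ (AdjoinRoot.root m * e) v₀ = a (φ e v₀)
      rw [map_mul, hα]; rfl) with h | h
    · exfalso
      have h1 : v₀ ∈ LinearMap.range ev := ⟨1, by show φ 1 v₀ = v₀; rw [map_one]; rfl⟩
      rw [h] at h1
      exact hv₀ ((Submodule.mem_bot _).mp h1)
    · exact fun v => LinearMap.range_eq_top.mp h v

namespace CyclicModel

variable {a : V ≃ₗ[ZMod q] V} {E : Type} [Field E] [Algebra (ZMod q) E] (M : CyclicModel a E)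

theorem φ_injective : Function.Injective M.φ := fun x y h => M.bij.1 (LinearMap.congr_fun h M.v₀)

theorem φ_pow (n : ℕ) : M.φ (M.α ^ n) = ((a ^ n : V ≃ₗ[ZMod q] V) : V →ₗ[ZMod q] V) := by
  induction n with
  | zero => rw [pow_zero, map_one, pow_zero]; rfl
  | succ n ih =>
    rw [pow_succ', map_mul, ih, M.φ_α, pow_succ']
    rfl

theorem orderOf_α : orderOf M.α = orderOf a :=
  orderOf_eq_orderOf_iff.mpr fun n => by
    constructor
    · intro h
      have := M.φ_pow n
      rw [h, map_one] at this
      exact LinearEquiv.ext fun x => (LinearMap.congr_fun this x).symm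
    · intro h
      refine M.φ_injective ?_
      rw [M.φ_pow, h, map_one]
      rfl

include M in
theorem natCard_eq : Nat.card E = Nat.card V := Nat.card_eq_of_bijective _ M.bij

include M in
theorem card_eq_pow [Finite V] : Nat.card E = q ^ Module.finrank (ZMod q) V := by
  haveI : Module.Finite (ZMod q) V := Module.Finite.of_finite
  rw [M.natCard_eq, Module.natCard_eq_pow_finrank (K := ZMod q), Nat.card_zmod]

/-- The elements fixed by the `d`-th power of Frobenius. -/
def fixedSub (E : Type) [Field E] [Algebra (ZMod q) E] (d : ℕ) : Subalgebra (ZMod q) E where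
  carrier := {x | x ^ q ^ d = x}
  mul_mem' := fun {x y} (hx : _ = _) (hy : _ = _) => by
    show (x * y) ^ q ^ d = x * y
    rw [mul_pow, hx, hy]
  add_mem' := fun {x y} (hx : _ = _) (hy : _ = _) => by
    haveI : CharP E q := charP_of_injective_algebraMap' (ZMod q) q
    show (x + y) ^ q ^ d = x + y
    rw [add_pow_char_pow, hx, hy]
  algebraMap_mem' := fun r => by
    show (algebraMap (ZMod q) E r) ^ q ^ d = _
    rw [← map_pow, ZMod.pow_card_pow]

theorem mem_fixedSub {d : ℕ} {x : E} : x ∈ fixedSub (q := q) E d ↔ x ^ q ^ d = x := Iff.rfl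

theorem card_fixedSub_le [Finite E] {d : ℕ} (hd : 0 < d) :
    Nat.card (fixedSub (q := q) E d) ≤ q ^ d := by
  classical
  haveI := Fintype.ofFinite E
  have hne : (X ^ q ^ d - X : E[X]) ≠ 0 :=
    FiniteField.X_pow_card_pow_sub_X_ne_zero E hd.ne' hq.out.one_lt
  have hdeg := FiniteField.X_pow_card_pow_sub_X_natDegree_eq E hd.ne' hq.out.one_lt
  have hsub : (Finset.univ.filter fun x : E => x ^ q ^ d = x) ⊆ (X ^ q ^ d - X : E[X]).roots.toFinset :=
    fun x hx => by
      rw [Multiset.mem_toFinset, mem_roots hne, IsRoot.def, eval_sub, eval_pow, eval_X,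
        (Finset.mem_filter.mp hx).2, sub_self]
  calc Nat.card (fixedSub (q := q) E d)
      = (Finset.univ.filter fun x : E => x ^ q ^ d = x).card := by
        rw [← Fintype.card_subtype, ← Nat.card_eq_fintype_card]
        rfl
    _ ≤ (X ^ q ^ d - X : E[X]).roots.toFinset.card := Finset.card_le_card hsub
    _ ≤ Multiset.card (X ^ q ^ d - X : E[X]).roots := Multiset.toFinset_card_le _
    _ ≤ (X ^ q ^ d - X : E[X]).natDegree := card_roots' _
    _ = q ^ d := hdeg

theorem pow_eq_self_iff [Finite E] {x : E} (hx : x ≠ 0) (n : ℕ) (hn : 0 < n) :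
    x ^ n = x ↔ (n : ZMod (orderOf x)) = 1 := by
  rw [← Nat.cast_one, ZMod.natCast_eq_natCast_iff]
  constructor
  · intro h
    have h2 : x ^ n = x ^ 1 := by rwa [pow_one]
    have hfo : IsOfFinOrder x := isOfFinOrder_iff_pow_eq_one.mpr
      ⟨orderOf (Units.mk0 x hx), orderOf_pos _, by
        have := congrArg Units.val (pow_orderOf_eq_one (Units.mk0 x hx))
        rwa [Units.val_pow_eq_pow_val, Units.val_one, Units.val_mk0] at this⟩
    rwa [hfo.pow_eq_pow_iff_modEq] at h2
  · intro h
    rw [← pow_mod_orderOf x n, h, pow_mod_orderOf, pow_one]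

include M in
/-- The dimension is the order of `q` modulo the order of `a`. -/
theorem finrank_eq_orderOf [Finite V] [Nontrivial V] :
    Module.finrank (ZMod q) V = orderOf (q : ZMod (orderOf M.α)) := by
  haveI : Finite E := Finite.of_injective _ M.bij.1
  haveI : Module.Finite (ZMod q) V := Module.Finite.of_finite
  set e := Module.finrank (ZMod q) V with he
  have hα0 : M.α ≠ 0 := by
    intro h
    have h1 := M.φ_α
    rw [h, map_zero] at h1
    obtain ⟨v, hv⟩ := exists_ne (0 : V)
    exact hv (a.injective (by rw [map_zero]; exact (LinearMap.congr_fun h1 v).symm))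
  have hqe : (q : ZMod (orderOf M.α)) ^ e = 1 := by
    rw [← Nat.cast_pow, ← pow_eq_self_iff hα0 _ (pow_pos hq.out.pos e), ← M.card_eq_pow]
    haveI := Fintype.ofFinite E
    rw [Nat.card_eq_fintype_card]
    exact FiniteField.pow_card M.α
  have hepos : 0 < e := Module.finrank_pos
  set d := orderOf (q : ZMod (orderOf M.α)) with hd
  have hde : d ∣ e := orderOf_dvd_of_pow_eq_one hqe
  have hdpos : 0 < d := Nat.pos_of_dvd_of_pos hde hepos
  refine le_antisymm ?_ (Nat.le_of_dvd hepos hde)
  have htop : (⊤ : Subalgebra (ZMod q) E) ≤ fixedSub (q := q) E d := by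
    rw [← M.gen, Algebra.adjoin_le_iff, Set.singleton_subset_iff, SetLike.mem_coe, mem_fixedSub,
      pow_eq_self_iff hα0 _ (pow_pos hq.out.pos d), Nat.cast_pow]
    exact pow_orderOf_eq_one _
  have h1 := card_fixedSub_le (q := q) (E := E) hdpos
  rw [top_le_iff.mp htop, Nat.card_congr Subalgebra.topEquiv.toEquiv, M.card_eq_pow] at h1
  exact (Nat.pow_le_pow_iff_right hq.out.one_lt).mp h1

end CyclicModel

end Cfsg.Agent.Lib.PowerOrbits
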