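import Cfsg.Agent.Lib.PowerOrbits.Blocks
import Cfsg.Agent.Lib.Classification.CyclicNormalAbelian
import Cfsg.Agent.Lib.Solvable.Nilpotent
import Mathlib.GroupTheory.IndexNormal

/-!
# Pairs of commuting elements of order `p` in a p-group, and the blocks they give
-/

set_option autoImplicit false

namespace Cfsg.Agent.Lib.PowerOrbits

universe u

/-- A normal subgroup `⟨z, b⟩` of order `p ^ 2`, with `z` central. -/
structure NormalPair (p : ℕ) {P : Type*} [Group P] (z b : P) : Prop where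
  z_central : z ∈ Subgroup.center P
  z_pow : z ^ p = 1
  z_ne : z ≠ 1
  b_pow : b ^ p = 1
  b_not : b ∉ Subgroup.zpowers z
  conj : ∀ x : P, ∃ c : ℤ, x * b * x⁻¹ = b * z ^ c

/-- A noncyclic normal abelian subgroup of a `p`-group contains a normal pair. -/
theorem exists_normalPair {P : Type*} [Group P] [Finite P] {p : ℕ} [hp : Fact p.Prime]
    (hP : IsPGroup p P) {A : Subgroup P} [hA : A.Normal] (hAc : IsMulCommutative ↥A)
    (hnc : ¬ IsCyclic ↥A) : ∃ z b : P, NormalPair p z b := by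
  haveI := hP.isNilpotent
  have hcomm : ∀ x ∈ A, ∀ y ∈ A, x * y = y * x := fun x hx y hy =>
    congrArg Subtype.val (hAc.is_comm.comm ⟨x, hx⟩ ⟨y, hy⟩)
  let A₁ : Subgroup P :=
    { carrier := {x | x ∈ A ∧ x ^ p = 1}
      one_mem' := ⟨one_mem A, one_pow p⟩
      mul_mem' := fun {x y} hx hy => ⟨mul_mem hx.1 hy.1, by
        rw [(show Commute x y from hcomm x hx.1 y hy.1).mul_pow, hx.2, hy.2, one_mul]⟩
      inv_mem' := fun {x} hx => ⟨inv_mem hx.1, by rw [inv_pow, hx.2, inv_one]⟩ }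
  haveI hA₁ : A₁.Normal := ⟨fun x hx g => ⟨hA.conj_mem x hx.1 g, by
    rw [conj_pow, hx.2]; group⟩⟩
  -- two independent elements of order `p`
  obtain ⟨u, w, hu, hw, huw⟩ : ∃ u w : ↥A, orderOf u = p ∧ orderOf w = p ∧
      u ∉ Subgroup.zpowers w := by
    by_contra hcon
    push Not at hcon
    rcases Frobenius.isCyclic_or_quaternion_of_unique (hP.to_subgroup A) hcon with h | ⟨-, m, ⟨e⟩⟩
    · exact hnc h
    · haveI : NeZero (2 ^ (m + 1)) := ⟨pow_ne_zero _ two_ne_zero⟩
      have h1 := hAc.is_comm.comm (e.symm (QuaternionGroup.a 1)) (e.symm (QuaternionGroup.xa 0))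
      rw [← map_mul, ← map_mul] at h1
      have h2 := e.symm.injective h1
      rw [QuaternionGroup.a_mul_xa, QuaternionGroup.xa_mul_a, QuaternionGroup.xa.injEq,
        zero_sub, zero_add] at h2
      have h3 : ((2 : ℕ) : ZMod (2 * 2 ^ (m + 1))) = 0 := by
        push_cast
        linear_combination -h2
      rw [ZMod.natCast_eq_zero_iff] at h3
      have h4 := Nat.le_of_dvd two_pos h3
      have h5 : 1 < 2 ^ (m + 1) := Nat.one_lt_two_pow (Nat.succ_ne_zero m)
      omega
  have hmem : ∀ v : ↥A, orderOf v = p → (v : P) ∈ A₁ := fun v hv => ⟨v.2, by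
    rw [← Subgroup.coe_pow, ← hv, pow_orderOf_eq_one, Subgroup.coe_one]⟩
  have hne : A₁ ≠ ⊥ := by
    intro h
    have h1 := hmem u hu
    rw [h, Subgroup.mem_bot, OneMemClass.coe_eq_one] at h1
    rw [h1, orderOf_one] at hu
    exact hp.out.ne_one hu.symm
  obtain ⟨z, hz, hz1⟩ : ∃ z ∈ A₁ ⊓ Subgroup.center P, z ≠ 1 := by
    by_contra hc
    push Not at hc
    exact Solvable.inf_center_ne_bot hne ((Subgroup.eq_bot_iff_forall _).mpr hc)
  obtain ⟨⟨hzA, hzp⟩, hzc⟩ := hz
  haveI : (Subgroup.zpowers z).Normal := ⟨fun x hx g => by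
    obtain ⟨i, rfl⟩ := Subgroup.mem_zpowers_iff.mp hx
    rw [(Subgroup.mem_center_iff.mp (Subgroup.zpow_mem (Subgroup.center P) hzc i) g),
      mul_inv_cancel_right]
    exact Subgroup.zpow_mem _ (Subgroup.mem_zpowers z) i⟩
  set π := QuotientGroup.mk' (Subgroup.zpowers z) with hπ
  haveI : (A₁.map π).Normal := hA₁.map π (QuotientGroup.mk'_surjective _)
  have hne2 : A₁.map π ≠ ⊥ := by
    rw [Ne, Subgroup.map_eq_bot_iff, hπ, QuotientGroup.ker_mk']
    intro hle
    have hz' : orderOf z = p := orderOf_eq_prime hzp hz1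
    have h1 : (u : P) ∈ Subgroup.zpowers z := hle (hmem u hu)
    have h2 : (w : P) ∈ Subgroup.zpowers z := hle (hmem w hw)
    have h3 : Subgroup.zpowers (w : P) = Subgroup.zpowers z :=
      Subgroup.eq_of_le_of_card_ge (Subgroup.zpowers_le.mpr h2)
        (by rw [Nat.card_zpowers, Nat.card_zpowers, hz', Subgroup.orderOf_coe, hw])
    rw [← h3] at h1
    obtain ⟨i, hi⟩ := Subgroup.mem_zpowers_iff.mp h1
    exact huw (Subgroup.mem_zpowers_iff.mpr ⟨i, Subtype.ext (by simpa using hi)⟩)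
  haveI : Group.IsNilpotent (P ⧸ Subgroup.zpowers z) := (hP.to_quotient _).isNilpotent
  obtain ⟨y, hy, hy1⟩ : ∃ y ∈ A₁.map π ⊓ Subgroup.center _, y ≠ 1 := by
    by_contra hc
    push Not at hc
    exact Solvable.inf_center_ne_bot hne2 ((Subgroup.eq_bot_iff_forall _).mpr hc)
  obtain ⟨⟨b, hb, rfl⟩, hyc⟩ := hy
  refine ⟨z, b, hzc, hzp, hz1, hb.2, fun h => hy1 ((QuotientGroup.eq_one_iff b).mpr h), fun x => ?_⟩
  have h1 : π (b⁻¹ * (x * b * x⁻¹)) = 1 := by
    rw [map_mul, map_mul, map_mul, map_inv, map_inv, Subgroup.mem_center_iff.mp hyc (π x)]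
    group
  obtain ⟨c, hc⟩ := Subgroup.mem_zpowers_iff.mp ((QuotientGroup.eq_one_iff _).mp h1)
  exact ⟨c, by rw [hc, mul_inv_cancel_left]⟩

variable {q : ℕ} [hq : Fact q.Prime] {V : Type u} [AddCommGroup V] [Module (ZMod q) V]
  [Nontrivial V] {p : ℕ} [hp : Fact p.Prime]

/-- A normal pair in an irreducible `p`-group gives blocks, none of them faithful. -/
theorem blocks_of_normalPair_fixed (hpq : p ≠ q) {H : Subgroup (V ≃ₗ[ZMod q] V)} {P : Subgroup ↥H}
    (hirr : ∀ U : Submodule (ZMod q) V, (∀ w ∈ P, ∀ x ∈ U, w • x ∈ U) → U = ⊥ ∨ U = ⊤)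
    {z b : ↥P} (h : NormalPair p z b) :
    ∃ W : ZMod p → Submodule (ZMod q) V,
      BlockSystem W {t | ∃ w ∈ P, t = ((w : ↥H) : V ≃ₗ[ZMod q] V)} ∧
      ∀ i, ∃ w : ↥P, w ≠ 1 ∧ ∀ x ∈ W i, w • x = x := by
  classical
  haveI : NeZero p := ⟨hp.out.ne_zero⟩
  have hzc : ∀ (i : ℤ) (w : ↥P), w * z ^ i = z ^ i * w := fun i w =>
    Subgroup.mem_center_iff.mp (zpow_mem h.z_central i) w
  have hzper : ∀ i j : ℤ, (i : ZMod p) = (j : ZMod p) → z ^ i = z ^ j := by
    intro i j hij
    rw [ZMod.intCast_eq_intCast_iff_dvd_sub] at hij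
    obtain ⟨r, hr⟩ := hij
    rw [show j = i + (p : ℤ) * r by linarith, zpow_add, zpow_mul, zpow_natCast, h.z_pow, one_zpow,
      mul_one]
  let t : ZMod p → ↥P := fun i => b * z ^ i.val
  have htp : ∀ i, t i ^ p = 1 := fun i => by
    have hc : Commute b (z ^ i.val) := by
      have := hzc (i.val : ℤ) b
      rwa [zpow_natCast] at this
    rw [hc.mul_pow, h.b_pow, one_mul, ← pow_mul, mul_comm, pow_mul, h.z_pow, one_pow]
  -- `z` has no fixed vectors
  have hzfix : ∀ v : V, z • v = v → v = 0 := by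
    intro v hv
    let U : Submodule (ZMod q) V :=
      { carrier := {x | z • x = x}
        zero_mem' := smul_zero _
        add_mem' := fun {x y} (hx : _ = _) (hy : _ = _) => by
          show z • (x + y) = x + y
          rw [smul_add, hx, hy]
        smul_mem' := fun r x (hx : _ = _) => by
          show z • (r • x) = r • x
          rw [smul_comm, hx] }
    rcases hirr U (fun w hw x (hx : z • x = x) => by
      show z • ((⟨w, hw⟩ : ↥P) • x) = (⟨w, hw⟩ : ↥P) • x
      rw [← mul_smul, ← Subgroup.mem_center_iff.mp h.z_central ⟨w, hw⟩, mul_smul, hx]) with hU | hU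
    · have hvU : v ∈ U := hv
      rw [hU] at hvU
      exact (Submodule.mem_bot _).mp hvU
    · exfalso
      apply h.z_ne
      apply Subtype.ext
      apply Subtype.ext
      apply LinearEquiv.ext
      intro x
      exact (hU ▸ Submodule.mem_top : x ∈ U)
  have hzsum : ∀ v : V, ∑ j : ZMod p, z ^ j.val • v = 0 := by
    intro v
    refine hzfix _ ?_
    rw [Finset.smul_sum]
    refine Fintype.sum_equiv (Equiv.addRight (1 : ZMod p)) _ _ fun j => ?_
    rw [← mul_smul, ← pow_succ']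
    congr 1
    rw [← zpow_natCast, ← zpow_natCast]
    exact hzper _ _ (by simp)
  let W : ZMod p → Submodule (ZMod q) V := fun i =>
    { carrier := {x | t i • x = x}
      zero_mem' := smul_zero _
      add_mem' := fun {x y} (hx : _ = _) (hy : _ = _) => by
        show t i • (x + y) = x + y
        rw [smul_add, hx, hy]
      smul_mem' := fun r x (hx : _ = _) => by
        show t i • (r • x) = r • x
        rw [smul_comm, hx] }
  let N : ZMod p → V → V := fun i v => ∑ l ∈ Finset.range p, t i ^ l • v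
  have hNmem : ∀ i v, N i v ∈ W i := fun i v => by
    show t i • (∑ l ∈ Finset.range p, t i ^ l • v) = ∑ l ∈ Finset.range p, t i ^ l • v
    rw [Finset.smul_sum]
    have h1 := Finset.sum_range_succ' (fun l => t i ^ l • v) p
    have h2 := Finset.sum_range_succ (fun l => t i ^ l • v) p
    rw [h2, htp i, pow_zero] at h1
    rw [Finset.sum_congr rfl (fun l _ => by rw [← mul_smul, ← pow_succ'])]
    exact (add_right_cancel h1).symm
  have hpow : ∀ i w, w ∈ W i → ∀ l : ℕ, t i ^ l • w = w := by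
    intro i w hw l
    induction l with
    | zero => rw [pow_zero, one_smul]
    | succ l ih => rw [pow_succ, mul_smul, hw, ih]
  have hNsame : ∀ i w, w ∈ W i → N i w = p • w := fun i w hw => by
    show ∑ l ∈ Finset.range p, t i ^ l • w = p • w
    rw [Finset.sum_congr rfl (fun l _ => hpow i w hw l), Finset.sum_const, Finset.card_range]
  have htdiff : ∀ i j : ZMod p, t j = z ^ ((j - i).val : ℤ) * t i := fun i j => by
    show b * z ^ j.val = z ^ ((j - i).val : ℤ) * (b * z ^ i.val)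
    rw [← mul_assoc, ← hzc, mul_assoc, ← zpow_natCast, ← zpow_natCast, ← zpow_add]
    congr 1
    exact hzper _ _ (by simp)
  have hNother : ∀ i j w, w ∈ W i → j ≠ i → N j w = 0 := by
    intro i j w hw hji
    show ∑ l ∈ Finset.range p, t j ^ l • w = 0
    have h1 : ∀ l : ℕ, t j ^ l • w = z ^ ((j - i) * (l : ZMod p)).val • w := by
      intro l
      have hc : Commute (z ^ ((j - i).val : ℤ)) (t i) := (hzc _ (t i)).symm
      rw [htdiff i j, hc.mul_pow, mul_smul, hpow i w hw, ← zpow_natCast (z ^ _), ← zpow_mul,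
        ← zpow_natCast z]
      congr 1
      exact hzper _ _ (by simp)
    rw [Finset.sum_congr rfl (fun l _ => h1 l), ← hzsum w]
    refine Finset.sum_nbij (fun l => (j - i) * (l : ZMod p)) (fun l _ => Finset.mem_univ _) ?_ ?_
      (fun l _ => rfl)
    · intro l hl l' hl' he
      have := congrArg ZMod.val (mul_left_cancel₀ (sub_ne_zero.mpr hji) he)
      rwa [ZMod.val_natCast_of_lt (Finset.mem_range.mp hl),
        ZMod.val_natCast_of_lt (Finset.mem_range.mp hl')] at this
    · intro y _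
      refine ⟨((j - i)⁻¹ * y).val, Finset.mem_coe.mpr (Finset.mem_range.mpr (ZMod.val_lt _)), ?_⟩
      show (j - i) * ((((j - i)⁻¹ * y).val : ℕ) : ZMod p) = y
      rw [ZMod.natCast_zmod_val, mul_inv_cancel_left₀ (sub_ne_zero.mpr hji)]
  have hpne : (p : ZMod q) ≠ 0 := fun h0 =>
    hpq ((Nat.prime_dvd_prime_iff_eq hq.out hp.out).mp ((ZMod.natCast_eq_zero_iff p q).mp h0)).symm
  have hNsum : ∀ v, ∑ i, N i v = p • v := by
    intro v
    show ∑ i, ∑ l ∈ Finset.range p, t i ^ l • v = p • v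
    rw [Finset.sum_comm, ← Finset.add_sum_erase _ _ (Finset.mem_range.mpr hp.out.pos)]
    have h0 : ∀ l ∈ (Finset.range p).erase 0, ∑ i : ZMod p, t i ^ l • v = 0 := by
      intro l hl
      obtain ⟨hl0, hlp⟩ := Finset.mem_erase.mp hl
      have hlz : (l : ZMod p) ≠ 0 := by
        intro hz
        rw [ZMod.natCast_eq_zero_iff] at hz
        exact absurd (Nat.le_of_dvd (Nat.pos_of_ne_zero hl0) hz)
          (not_le.mpr (Finset.mem_range.mp hlp))
      have h1 : ∀ i : ZMod p, t i ^ l • v = b ^ l • (z ^ (i * (l : ZMod p)).val • v) := by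
        intro i
        have hc : Commute b (z ^ i.val) := by
          have := hzc (i.val : ℤ) b
          rwa [zpow_natCast] at this
        show (b * z ^ i.val) ^ l • v = _
        rw [hc.mul_pow, mul_smul, ← pow_mul, ← zpow_natCast z, ← zpow_natCast z]
        congr 2
        exact hzper _ _ (by simp)
      rw [Finset.sum_congr rfl (fun i _ => h1 i), ← Finset.smul_sum]
      have h2 : ∑ i : ZMod p, z ^ (i * (l : ZMod p)).val • v = ∑ j : ZMod p, z ^ j.val • v :=
        Fintype.sum_equiv (Equiv.mulRight₀ (l : ZMod p) hlz) _ _ fun i => rfl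
      rw [h2, hzsum, smul_zero]
    rw [Finset.sum_eq_zero h0, add_zero]
    simp
  have hNadd : ∀ i v w, N i (v + w) = N i v + N i w := fun i v w => by
    show ∑ l ∈ Finset.range p, t i ^ l • (v + w) = _
    simp only [smul_add, Finset.sum_add_distrib, N]
  have hN0 : ∀ i, N i 0 = 0 := fun i => Finset.sum_eq_zero fun l _ => smul_zero _
  have hinv : ∀ v : V, p • ((p : ZMod q)⁻¹ • v) = v := fun v => by
    rw [← Nat.cast_smul_eq_nsmul (ZMod q), smul_smul, mul_inv_cancel₀ hpne, one_smul]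
  -- shifts
  have hshift : ∀ w : ↥P, ∃ c : ZMod p, ∀ i, ∀ x ∈ W i, w • x ∈ W (i + c) := by
    intro w
    obtain ⟨c, hc⟩ := h.conj w
    refine ⟨(c : ZMod p), fun i x hx => ?_⟩
    show t (i + (c : ZMod p)) • (w • x) = w • x
    have h1 : t (i + (c : ZMod p)) * w = w * t i := by
      show b * z ^ (i + (c : ZMod p)).val * w = w * (b * z ^ i.val)
      have h2 : w * b = b * z ^ c * w := by rw [← hc]; group
      have h3 : (z ^ c * z ^ ((i.val : ℕ) : ℤ)) = z ^ ((i + (c : ZMod p)).val : ℤ) := by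
        rw [← zpow_add]
        exact hzper _ _ (by simp [add_comm])
      rw [← zpow_natCast, ← h3, ← zpow_natCast z i.val]
      symm
      calc w * (b * z ^ ((i.val : ℕ) : ℤ)) = b * z ^ c * (w * z ^ ((i.val : ℕ) : ℤ)) := by
            rw [← mul_assoc, h2, mul_assoc]
        _ = b * (z ^ c * z ^ ((i.val : ℕ) : ℤ)) * w := by
            rw [hzc ((i.val : ℕ) : ℤ) w, ← mul_assoc, mul_assoc b]
    rw [← mul_smul, h1, mul_smul, hx]
  refine ⟨W, ⟨⟨?_, ?_⟩, ?_, ?_⟩, fun i => ⟨t i, fun h1 => h.b_not ?_, fun x hx => hx⟩⟩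
  on_goal 5 =>
    have h2 : b = (z ^ i.val)⁻¹ := eq_inv_of_mul_eq_one_left h1
    rw [h2]
    exact inv_mem (Subgroup.pow_mem _ (Subgroup.mem_zpowers z) _)
  · intro f g hfg
    funext i
    apply Subtype.ext
    have key : ∀ F : (i : ZMod p) → W i, N i (∑ j, (F j : V)) = p • (F i : V) := by
      intro F
      let Ni : V →+ V := ⟨⟨N i, hN0 i⟩, hNadd i⟩
      show Ni (∑ j, (F j : V)) = _
      rw [map_sum, Fintype.sum_eq_single i
        (fun j hj => show Ni (F j : V) = 0 from hNother j i _ (F j).2 (Ne.symm hj))]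
      exact hNsame i _ (F i).2
    have h1 : p • (f i : V) = p • (g i : V) := by rw [← key, ← key]; exact congrArg (N i) hfg
    rw [← Nat.cast_smul_eq_nsmul (ZMod q), ← Nat.cast_smul_eq_nsmul (ZMod q)] at h1
    exact smul_right_injective V hpne h1
  · intro v
    refine ⟨fun i => ⟨(p : ZMod q)⁻¹ • N i v, Submodule.smul_mem _ _ (hNmem i v)⟩, ?_⟩
    show ∑ i, (p : ZMod q)⁻¹ • N i v = v
    rw [← Finset.smul_sum, hNsum, smul_comm, hinv]
  · intro i hi
    obtain ⟨j, x, hx, hx0⟩ : ∃ j, ∃ x ∈ W j, x ≠ 0 := by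
      by_contra hc
      push Not at hc
      obtain ⟨v, hv⟩ := exists_ne (0 : V)
      apply hv
      rw [← hinv v, smul_comm, ← hNsum, Finset.sum_eq_zero (fun j _ => hc j _ (hNmem j v)),
        smul_zero]
    by_cases hex : ∃ s : ↥P, ∃ c : ZMod p, c ≠ 0 ∧ ∀ j, ∀ x ∈ W j, s • x ∈ W (j + c)
    · obtain ⟨s, c, hc, hs⟩ := hex
      have hiter : ∀ m : ℕ, s ^ m • x ∈ W (j + (m : ZMod p) * c) := by
        intro m
        induction m with
        | zero => simpa using hx
        | succ m ih =>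
          rw [pow_succ', mul_smul, Nat.cast_succ, add_mul, one_mul, ← add_assoc]
          exact hs _ _ ih
      have h1 := hiter ((i - j) * c⁻¹).val
      rw [ZMod.natCast_zmod_val, inv_mul_cancel_right₀ hc, add_sub_cancel, hi, Submodule.mem_bot]
        at h1
      exact hx0 ((smul_eq_zero_iff_eq _).mp h1)
    · push Not at hex
      have hstab : ∀ w ∈ P, ∀ y ∈ W j, w • y ∈ W j := by
        intro w hw y hy
        obtain ⟨c, hc⟩ := hshift ⟨w, hw⟩
        have hc0 : c = 0 := by
          by_contra hc0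
          obtain ⟨j', y', hy', hy''⟩ := hex ⟨w, hw⟩ c hc0
          exact hy'' (hc j' y' hy')
        have h1 : (⟨w, hw⟩ : ↥P) • y ∈ W (j + c) := hc j y hy
        rw [hc0, add_zero] at h1
        exact h1
      rcases hirr (W j) hstab with h0 | h0
      · exact hx0 ((Submodule.mem_bot _).mp (h0 ▸ hx))
      · apply h.b_not
        have h1 : t j = 1 := by
          apply Subtype.ext
          apply Subtype.ext
          apply LinearEquiv.ext
          intro y
          exact (h0 ▸ Submodule.mem_top : y ∈ W j)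
        have h2 : b = (z ^ j.val)⁻¹ := eq_inv_of_mul_eq_one_left h1
        rw [h2]
        exact inv_mem (Subgroup.pow_mem _ (Subgroup.mem_zpowers z) _)
  · rintro _ ⟨w, hw, rfl⟩
    exact hshift ⟨w, hw⟩

/-- A normal pair in an irreducible `p`-group gives blocks. -/
theorem blocks_of_normalPair (hpq : p ≠ q) {H : Subgroup (V ≃ₗ[ZMod q] V)} {P : Subgroup ↥H}
    (hirr : ∀ U : Submodule (ZMod q) V, (∀ w ∈ P, ∀ x ∈ U, w • x ∈ U) → U = ⊥ ∨ U = ⊤)
    {z b : ↥P} (h : NormalPair p z b) :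
    ∃ W : ZMod p → Submodule (ZMod q) V,
      BlockSystem W {t | ∃ w ∈ P, t = ((w : ↥H) : V ≃ₗ[ZMod q] V)} :=
  (blocks_of_normalPair_fixed hpq hirr h).imp fun _ hW => hW.1

end Cfsg.Agent.Lib.PowerOrbits
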