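import Cfsg.Agent.Lib.PowerOrbits.Regular
import Cfsg.Agent.Lib.PowerOrbits.Pair
import Cfsg.Agent.Lib.PGroups.Subnormal
import Cfsg.Agent.Lib.Cores.PCore
import Cfsg.Prelude.Def_CaseTheorems
import Mathlib.FieldTheory.Finite.GaloisField
import Mathlib.FieldTheory.Minpoly.IsConjRoot

/-!
# Coprime linear groups with all orbits of `p`-power size are solvable
-/

set_option autoImplicit false

namespace Cfsg.Agent.Lib.PowerOrbits

open Module MulAction

universe u

variable {q : ℕ} [hq' : Fact q.Prime] {V : Type u} [AddCommGroup V] [Module (ZMod q) V]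

/-- Orbit sizes in a normal subgroup divide those in the group. -/
theorem index_stabilizer_normal_dvd {H : Subgroup (V ≃ₗ[ZMod q] V)} [Finite ↥H] (N : Subgroup ↥H)
    [N.Normal] (v : V) :
    (stabilizer ↥N v).index ∣ (stabilizer ↥H v).index :=
  PGroups.relIndex_dvd_index_of_normal_right N (stabilizer ↥H v)

/-- The minimal-counterexample facts: only trivial proper normal subgroups. -/
theorem normal_eq_bot [Finite V] {p : ℕ} [hp : Fact p.Prime] {H : Subgroup (V ≃ₗ[ZMod q] V)}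
    [Finite ↥H] (hH : PowOrbits p H) (hperf : commutator ↥H = ⊤)
    (hsol : ∀ M : Subgroup ↥H, M.Normal → M ≠ ⊤ → Group.IsSolvable ↥M)
    (P : Sylow p ↥H) [hPc : IsCyclic ↥(P : Subgroup ↥H)] (M : Subgroup ↥H) (hM : M.Normal)
    (hM' : M ≠ ⊤) : M = ⊥ := by
  by_contra hne
  haveI := hM
  -- an abelian normal subgroup
  obtain ⟨A, hAn, hA0, hAc⟩ : ∃ A : Subgroup ↥H, A.Normal ∧ A ≠ ⊥ ∧ ⁅A, A⁆ = ⊥ := by
    obtain ⟨n, hn⟩ := hsol M hM hM'
    set D : ℕ → Subgroup ↥H := fun i => (derivedSeries ↥M i).map M.subtype with hD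
    have hD0 : D 0 = M := by
      simp only [hD, derivedSeries_zero, ← MonoidHom.range_eq_map, Subgroup.range_subtype]
    have hDn : D n = ⊥ := by simp only [hD, hn, Subgroup.map_bot]
    classical
    have hex : ∃ i, D i = ⊥ := ⟨n, hDn⟩
    set i₀ := Nat.find hex with hi₀
    have hi : D i₀ = ⊥ := Nat.find_spec hex
    have hpos : i₀ ≠ 0 := fun h => hne (hD0 ▸ h ▸ hi)
    obtain ⟨j, hj⟩ : ∃ j, i₀ = j + 1 := ⟨i₀ - 1, by omega⟩
    refine ⟨D j, inferInstance, Nat.find_min hex (by omega), ?_⟩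
    rw [← hi, hj]
    simp only [hD, derivedSeries_succ, Subgroup.map_commutator]
  haveI := hAn
  have hcomm : ∀ x ∈ A, ∀ y ∈ A, x * y = y * x := fun x hx y hy =>
    (commutatorElement_eq_one_iff_mul_comm.mp
      (Subgroup.mem_bot.mp (hAc ▸ Subgroup.commutator_mem_commutator hx hy)))
  -- it is a `p`-group
  have hAp : IsPGroup p ↥A := by
    refine IsPGroup.of_card (n := (Nat.card ↥A).factorization p) ?_
    by_contra hcard
    obtain ⟨r, hr, hrd, hrp⟩ : ∃ r : ℕ, r.Prime ∧ r ∣ Nat.card ↥A ∧ r ≠ p := by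
      by_contra hc
      push Not at hc
      have := Nat.eq_prime_pow_of_unique_prime_dvd Nat.card_pos.ne' fun {d} hd hd' => hc d hd hd'
      apply hcard
      rw [this, hp.out.factorization_pow, Finsupp.single_eq_same]
    let R : Subgroup ↥H :=
      { carrier := {x | x ∈ A ∧ x ^ r = 1}
        one_mem' := ⟨one_mem A, one_pow r⟩
        mul_mem' := fun {x y} hx hy => ⟨mul_mem hx.1 hy.1, by
          rw [(show Commute x y from hcomm x hx.1 y hy.1).mul_pow, hx.2, hy.2, one_mul]⟩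
        inv_mem' := fun {x} hx => ⟨inv_mem hx.1, by rw [inv_pow, hx.2, inv_one]⟩ }
    haveI hRn : R.Normal := ⟨fun x hx g => ⟨hAn.conj_mem x hx.1 g, by
      rw [conj_pow, hx.2]; group⟩⟩
    have hRp : IsPGroup r ↥R := fun x => ⟨1, Subtype.ext (by
      rw [pow_one, Subgroup.coe_pow, Subgroup.coe_one]; exact x.2.2)⟩
    haveI := Fact.mk hr
    have hRbot : ∀ x ∈ R, x = 1 := by
      intro x hx
      apply Subtype.ext
      apply LinearEquiv.ext
      intro v
      obtain ⟨n, hn⟩ := hH v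
      obtain ⟨i, hi⟩ := IsPGroup.iff_card.mp hRp
      have h1 : (stabilizer ↥R v).index = 1 :=
        Nat.eq_one_of_dvd_coprimes
          (((Nat.coprime_primes hp.out hr).mpr hrp.symm).pow n i)
          (hn ▸ index_stabilizer_normal_dvd R v) (hi ▸ Subgroup.index_dvd_card _)
      rw [Subgroup.index_eq_one] at h1
      exact (h1 ▸ Subgroup.mem_top _ : (⟨x, hx⟩ : ↥R) ∈ stabilizer ↥R v)
    obtain ⟨x, hx⟩ := exists_prime_orderOf_dvd_card' r hrd
    have hx1 := hRbot x ⟨x.2, by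
      rw [← Subgroup.coe_pow, ← hx, pow_orderOf_eq_one, Subgroup.coe_one]⟩
    rw [OneMemClass.coe_eq_one] at hx1
    rw [hx1, orderOf_one] at hx
    exact hr.ne_one hx.symm
  have hAP : A ≤ (P : Subgroup ↥H) :=
    (Cores.le_pCore hAn hAp).trans (Cores.pCore_le_sylow P)
  haveI : IsCyclic ↥A :=
    isCyclic_of_injective (Subgroup.inclusion hAP) (Subgroup.inclusion_injective hAP)
  haveI : Group.IsSolvable (MulAut ↥A) := Group.isSolvable_of_comm fun σ τ => by
    obtain ⟨m, hm⟩ := MonoidHom.map_cyclic σ.toMonoidHom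
    obtain ⟨l, hl⟩ := MonoidHom.map_cyclic τ.toMonoidHom
    refine MulEquiv.ext fun x => ?_
    show σ (τ x) = τ (σ x)
    have hm' : ∀ y, σ y = y ^ m := hm
    have hl' : ∀ y, τ y = y ^ l := hl
    rw [hm', hl', hl', hm', ← zpow_mul, ← zpow_mul, mul_comm]
  have hcentral : A ≤ Subgroup.center ↥H := by
    intro x hx
    rw [Subgroup.mem_center_iff]
    intro g
    have h1 := MulEquiv.ext_iff.mp (DFunLike.congr_fun
      (hom_eq_one_of_perfect hperf (MulAut.conjNormal : ↥H →* MulAut ↥A)) g) ⟨x, hx⟩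
    have h2 := congrArg Subtype.val h1
    rw [MulAut.conjNormal_apply] at h2
    exact mul_inv_eq_iff_eq_mul.mp h2
  haveI : IsMulCommutative ↥(P : Subgroup ↥H) := ⟨⟨IsCyclic.commGroup.mul_comm⟩⟩
  exact hA0 ((Subgroup.eq_bot_iff_forall _).mpr fun x hx =>
    central_sylow_eq_one hperf P (hcentral hx) (hAP hx))

theorem zmod2_one_ne_zero : (1 : ZMod 2) ≠ 0 := by decide

theorem zmod2_cases : ∀ i : ZMod 2, i = 0 ∨ i = 1 := by decide

theorem zmod2_one_add_one : (1 : ZMod 2) + 1 = 0 := by decide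

/-- A noncyclic 2-group of maximal class has a cyclic subgroup of index two, inverted modulo
four by an element outside. -/
theorem exists_index_two_inverting {P : Type*} [Group P] [Finite P] (hP : IsPGroup 2 P)
    (hnc : ¬ IsCyclic P)
    (h : (∃ m : ℕ, Nonempty (P ≃* QuaternionGroup m)) ∨
      (∃ m : ℕ, 8 ≤ m ∧ Nonempty (P ≃* DihedralGroup m)) ∨ Cfsg.IsQuasiDihedral P) :
    ∃ a g : P, ∃ n r : ℕ, 2 ≤ n ∧ orderOf a = 2 ^ n ∧ Nat.card P = 2 * 2 ^ n ∧
      g ∉ Subgroup.zpowers a ∧ g * a * g⁻¹ = a ^ r ∧ 4 ∣ r + 1 := by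
  haveI : Fact (Nat.Prime 2) := ⟨Nat.prime_two⟩
  obtain ⟨k, hk⟩ := IsPGroup.iff_card.mp hP
  have hinvpow : ∀ {a : P} {n : ℕ}, orderOf a = 2 ^ n → a⁻¹ = a ^ (2 ^ n - 1) := fun {a n} ha => by
    apply inv_eq_of_mul_eq_one_right
    rw [← pow_succ', Nat.sub_add_cancel Nat.one_le_two_pow, ← ha, pow_orderOf_eq_one]
  have hfour : ∀ {n : ℕ}, 2 ≤ n → 4 ∣ 2 ^ n - 1 + 1 := fun {n} hn => by
    rw [Nat.sub_add_cancel Nat.one_le_two_pow]
    exact pow_dvd_pow 2 hn
  rcases h with ⟨m, ⟨e⟩⟩ | ⟨m, hm, ⟨e⟩⟩ | ⟨n, hn, hcard, x, y, hx, hy, hyx⟩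
  · haveI : NeZero m := ⟨by
      rintro rfl
      haveI := Finite.of_equiv P e.toEquiv
      haveI : Finite (ZMod (2 * 0)) :=
        Finite.of_injective (QuaternionGroup.a (n := 0)) fun i j h => by simpa using h
      haveI : Infinite (ZMod (2 * 0)) := inferInstanceAs (Infinite ℤ)
      exact not_finite (ZMod (2 * 0))⟩
    have hc : Nat.card P = 4 * m := by
      rw [Nat.card_congr e.toEquiv, Nat.card_eq_fintype_card, QuaternionGroup.card]
    obtain ⟨j, -, rfl⟩ : ∃ j ≤ k, m = 2 ^ j :=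
      (Nat.dvd_prime_pow Nat.prime_two).mp (hk ▸ hc ▸ dvd_mul_left m 4)
    have ha : orderOf (e.symm (QuaternionGroup.a 1)) = 2 ^ (j + 1) := by
      rw [e.symm.orderOf_eq, QuaternionGroup.orderOf_a_one]; ring
    have hj : 1 ≤ j := by
      by_contra hj
      obtain rfl : j = 0 := by omega
      refine hnc (isCyclic_of_orderOf_eq_card (e.symm (QuaternionGroup.xa 0)) ?_)
      rw [e.symm.orderOf_eq, QuaternionGroup.orderOf_xa, hc]; norm_num
    refine ⟨_, e.symm (QuaternionGroup.xa 0), j + 1, 2 ^ (j + 1) - 1, by omega, ha,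
      by rw [hc]; ring, ?_, ?_, hfour (by omega)⟩
    · intro h
      obtain ⟨i, hi⟩ := (isOfFinOrder_of_finite _).mem_powers_iff_mem_zpowers.mpr h
      have h2 : (QuaternionGroup.a 1 : QuaternionGroup (2 ^ j)) ^ i = QuaternionGroup.xa 0 :=
        e.symm.injective (by rw [map_pow]; exact hi)
      rw [QuaternionGroup.a_one_pow] at h2
      exact absurd h2 (by simp)
    · rw [← hinvpow ha, ← map_inv, ← map_inv, ← map_mul, ← map_mul]
      congr 1
      rw [mul_inv_eq_iff_eq_mul, QuaternionGroup.xa_mul_a,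
        show (QuaternionGroup.a 1 : QuaternionGroup (2 ^ j))⁻¹ = QuaternionGroup.a (-1) from rfl,
        QuaternionGroup.a_mul_xa]
      congr 1
      ring
  · haveI : NeZero m := ⟨by omega⟩
    have hc : Nat.card P = 2 * m := by rw [Nat.card_congr e.toEquiv, DihedralGroup.nat_card]
    obtain ⟨j, -, rfl⟩ : ∃ j ≤ k, m = 2 ^ j :=
      (Nat.dvd_prime_pow Nat.prime_two).mp (hk ▸ hc ▸ dvd_mul_left m 2)
    have ha : orderOf (e.symm (DihedralGroup.r 1)) = 2 ^ j := by
      rw [e.symm.orderOf_eq, DihedralGroup.orderOf_r_one]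
    have hj : 2 ≤ j := by
      by_contra hj
      have : 2 ^ j ≤ 2 ^ 1 := Nat.pow_le_pow_right two_pos (by omega)
      omega
    refine ⟨_, e.symm (DihedralGroup.sr 0), j, 2 ^ j - 1, hj, ha, hc, ?_, ?_, hfour hj⟩
    · intro h
      obtain ⟨i, hi⟩ := (isOfFinOrder_of_finite _).mem_powers_iff_mem_zpowers.mpr h
      have h2 : (DihedralGroup.r 1 : DihedralGroup (2 ^ j)) ^ i = DihedralGroup.sr 0 :=
        e.symm.injective (by rw [map_pow]; exact hi)
      rw [DihedralGroup.r_one_pow] at h2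
      exact absurd h2 (by simp)
    · rw [← hinvpow ha, ← map_inv, ← map_inv, ← map_mul, ← map_mul]
      congr 1
      rw [mul_inv_eq_iff_eq_mul, DihedralGroup.inv_r, DihedralGroup.sr_mul_r,
        DihedralGroup.r_mul_sr]
      congr 1
      ring
  · refine ⟨x, y, n, 2 ^ (n - 1) - 1, by omega, hx, by rw [hcard]; ring, ?_, hyx,
      hfour (by omega)⟩
    intro h
    obtain ⟨i, rfl⟩ := Subgroup.mem_zpowers_iff.mp h
    rw [show x ^ i * x * (x ^ i)⁻¹ = x by group, eq_comm] at hyx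
    have h1 : x ^ (2 ^ (n - 1) - 1 - 1) = 1 := by
      have h4 : 4 ≤ 2 ^ (n - 1) := (show 4 = 2 ^ 2 by norm_num) ▸
        Nat.pow_le_pow_right two_pos (by omega)
      apply mul_right_cancel (b := x)
      rw [← pow_succ, one_mul, show 2 ^ (n - 1) - 1 - 1 + 1 = 2 ^ (n - 1) - 1 by omega, hyx]
    have h2 := orderOf_dvd_of_pow_eq_one h1
    rw [hx] at h2
    have h4 : 4 ≤ 2 ^ (n - 1) := (show 4 = 2 ^ 2 by norm_num) ▸
      Nat.pow_le_pow_right two_pos (by omega)
    have h5 : 2 ^ (n - 1) * 2 = 2 ^ n := by rw [← pow_succ, Nat.sub_add_cancel (by omega : 1 ≤ n)]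
    have h6 := Nat.le_of_dvd (by omega) h2
    omega

/-- A semilinear automorphism inverting the generator modulo four bounds the dimension. -/
theorem finrank_le_two_of_inverting [Finite V] [Nontrivial V] {a : V ≃ₗ[ZMod q] V} {E : Type}
    [Field E] [Algebra (ZMod q) E] [Finite E] (M : CyclicModel a E) (hpq : (2 : ℕ) ≠ q) {n r : ℕ}
    (hn2 : 2 ≤ n) (hao : orderOf a = 2 ^ n) {G : V ≃ₗ[ZMod q] V}
    (hG : ∀ x, G (a x) = (a ^ r) (G x)) (hr2 : a ^ (r * r) = a) (h4 : 4 ∣ r + 1) :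
    Module.finrank (ZMod q) V ≤ 2 := by
  classical
  haveI : Module.Finite (ZMod q) V := Module.Finite.of_finite
  haveI : Finite (V ≃ₗ[ZMod q] V) := Finite.of_injective _ DFunLike.coe_injective
  have hα : orderOf M.α = 2 ^ n := M.orderOf_α.trans hao
  have hα0 : IsOfFinOrder M.α := orderOf_pos_iff.mp (hα ▸ Nat.two_pow_pos n)
  -- `α ^ r` is conjugate to `α`
  have hroot : Polynomial.aeval (M.α ^ r) (minpoly (ZMod q) M.α) = 0 := by
    apply M.φ_injective
    have hsemi : ∀ (f : Polynomial (ZMod q)) (x : V),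
        Polynomial.aeval ((a ^ r : V ≃ₗ[ZMod q] V) : V →ₗ[ZMod q] V) f (G x) =
          G (Polynomial.aeval (a : V →ₗ[ZMod q] V) f x) := by
      intro f
      induction f using Polynomial.induction_on with
      | C c => intro x; simp
      | add f f' hf hf' => intro x; simp [hf, hf']
      | monomial j c hj =>
        intro x
        rw [pow_succ, ← mul_assoc]
        generalize Polynomial.C c * Polynomial.X ^ j = F at hj ⊢
        rw [map_mul, map_mul, Polynomial.aeval_X, Polynomial.aeval_X,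
          Module.End.mul_apply, Module.End.mul_apply, LinearEquiv.coe_coe, LinearEquiv.coe_coe,
          ← hG, hj]
    rw [← Polynomial.aeval_algHom_apply, map_zero, M.φ_pow]
    refine LinearMap.ext fun x => ?_
    obtain ⟨y, rfl⟩ := G.surjective x
    rw [hsemi, ← M.φ_α, Polynomial.aeval_algHom_apply, minpoly.aeval, map_zero,
      LinearMap.zero_apply, map_zero, LinearMap.zero_apply]
  haveI : FiniteDimensional (ZMod q) E := Module.Finite.of_finite
  obtain ⟨σ, hσ⟩ := isConjRoot_iff_exists_algEquiv.mp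
    (isConjRoot_of_aeval_eq_zero (IsIntegral.of_finite (ZMod q) M.α) hroot).symm
  obtain ⟨⟨i, hlt⟩, hi⟩ := (FiniteField.bijective_frobeniusAlgEquivOfAlgebraic_pow (ZMod q) E).2 σ
  have hqi : M.α ^ q ^ i = M.α ^ r := by
    rw [← hσ, ← hi]
    simp only [AlgEquiv.coe_pow, FiniteField.coe_frobeniusAlgEquivOfAlgebraic_iterate, ZMod.card]
  have hcast : (q : ZMod (2 ^ n)) ^ i = (r : ZMod (2 ^ n)) := by
    rw [← Nat.cast_pow, ZMod.natCast_eq_natCast_iff, ← hα]
    exact hα0.pow_eq_pow_iff_modEq.mp hqi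
  have hsq : (r : ZMod (2 ^ n)) ^ 2 = 1 := by
    rw [sq, ← Nat.cast_mul, ← Nat.cast_one, ZMod.natCast_eq_natCast_iff, ← hao]
    exact (isOfFinOrder_of_finite a).pow_eq_pow_iff_modEq.mp (by rw [hr2, pow_one])
  have hodd : Odd q := hq'.out.odd_of_ne_two (Ne.symm hpq)
  -- `i` is odd
  have hiodd : Odd i := by
    rw [← Nat.not_even_iff_odd]
    rintro ⟨l, rfl⟩
    have hd4 : 4 ∣ 2 ^ n := pow_dvd_pow 2 hn2
    have h1 := congrArg (ZMod.castHom hd4 (ZMod 4)) hcast
    rw [map_pow, map_natCast, map_natCast] at h1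
    have hq4 : (q : ZMod 4) ^ 2 = 1 := by
      obtain ⟨c, rfl⟩ := hodd
      push_cast
      have h40 : (4 : ZMod 4) = 0 := by decide
      linear_combination ((c : ZMod 4) ^ 2 + c) * h40
    rw [← two_mul, pow_mul, hq4, one_pow] at h1
    have h2 : ((r + 1 : ℕ) : ZMod 4) = 0 := (ZMod.natCast_eq_zero_iff _ _).mpr h4
    push_cast at h2
    rw [← h1] at h2
    exact absurd h2 (by decide)
  -- the order of `q` is a power of two
  rw [M.finrank_eq_orderOf, hα]
  set e := orderOf (q : ZMod (2 ^ n)) with he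
  have hcop : Nat.Coprime q (2 ^ n) := (Nat.Coprime.symm (Nat.coprime_two_left.mpr hodd)).pow_right n
  have he2 : e ∣ 2 ^ (n - 1) := by
    have h1 := orderOf_dvd_card (x := ZMod.unitOfCoprime q hcop)
    rw [ZMod.card_units_eq_totient, Nat.totient_prime_pow Nat.prime_two (by omega)] at h1
    rw [← orderOf_units, ZMod.coe_unitOfCoprime] at h1
    simpa using h1
  have he3 : e ∣ 2 * i := orderOf_dvd_of_pow_eq_one (by rw [mul_comm, pow_mul, hcast, hsq])
  obtain ⟨b, -, hb⟩ := (Nat.dvd_prime_pow Nat.prime_two).mp he2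
  have he4 : Nat.Coprime e i := hb ▸ (Nat.coprime_two_left.mpr hiodd).pow_left b
  exact Nat.le_of_dvd two_pos (he4.dvd_of_dvd_mul_right he3)

/-- The core of the induction. -/
theorem false_of_minimal [Finite V] [Nontrivial V] {p : ℕ} [hp : Fact p.Prime]
    {H : Subgroup (V ≃ₗ[ZMod q] V)} [Finite ↥H] (hq : ¬ q ∣ Nat.card ↥H) (hH : PowOrbits p H)
    (hperf : commutator ↥H = ⊤)
    (hirr : ∀ U : Submodule (ZMod q) V, (∀ g : ↥H, ∀ x ∈ U, g • x ∈ U) → U = ⊥ ∨ U = ⊤)
    (hsol : ∀ M : Subgroup ↥H, M.Normal → M ≠ ⊤ → Group.IsSolvable ↥M)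
    (hns : ¬ Group.IsSolvable ↥H) : False := by
  classical
  haveI : Module.Finite (ZMod q) V := Module.Finite.of_finite
  obtain ⟨P⟩ : Nonempty (Sylow p ↥H) := inferInstance
  have hPne : (P : Subgroup ↥H) ≠ ⊥ := by
    intro hbot
    apply hns
    haveI : Subsingleton ↥H := ⟨fun g g' => by
      have h1 : ∀ g : ↥H, g = 1 := fun g => by
        apply Subtype.ext
        apply LinearEquiv.ext
        intro v
        obtain ⟨w, hw, he⟩ := exists_sylow_apply_eq hH P g v
        rw [hbot, Subgroup.mem_bot] at hw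
        rw [hw, one_smul] at he
        exact he
      rw [h1 g, h1 g']⟩
    infer_instance
  have hpq : p ≠ q := by
    intro h
    obtain ⟨w, hw, hw1⟩ := (P : Subgroup ↥H).bot_or_exists_ne_one.resolve_left hPne
    obtain ⟨k, hk⟩ := (IsPGroup.iff_orderOf.mp P.isPGroup') ⟨w, hw⟩
    rw [Subgroup.orderOf_mk] at hk
    rcases Nat.eq_zero_or_pos k with rfl | hk0
    · exact hw1 (orderOf_eq_one_iff.mp (by simpa using hk))
    · have hd : p ∣ Nat.card ↥H := (dvd_pow_self p hk0.ne').trans (hk ▸ orderOf_dvd_natCard w)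
      exact hq ((dvd_of_eq h.symm).trans hd)
  have hPirr : ∀ U : Submodule (ZMod q) V,
      (∀ w ∈ (P : Subgroup ↥H), ∀ x ∈ U, w • x ∈ U) → U = ⊥ ∨ U = ⊤ := fun U hU => hirr U
    fun g x hx => by
      obtain ⟨w, hw, he⟩ := exists_sylow_apply_eq hH P g x
      exact he ▸ hU w hw x hx
  by_cases hblocks : ∃ W : ZMod p → Submodule (ZMod q) V,
      BlockSystem W {t | ∃ w ∈ (P : Subgroup ↥H), t = ((w : ↥H) : V ≃ₗ[ZMod q] V)}
  · obtain ⟨W, hW⟩ := hblocks
    refine false_of_blocks hperf hirr (fun g v => ?_) hW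
    obtain ⟨w, hw, he⟩ := exists_sylow_apply_eq hH P g v
    exact ⟨_, ⟨w, hw, rfl⟩, he⟩
  have hcyc : ∀ A : Subgroup ↥(P : Subgroup ↥H), A.Normal → IsMulCommutative ↥A → IsCyclic ↥A := by
    intro A hA hAc
    by_contra hnc
    haveI := hA
    obtain ⟨z, b, hzb⟩ := exists_normalPair P.isPGroup' hAc hnc
    exact hblocks (blocks_of_normalPair hpq hPirr hzb)
  by_cases hp2 : p = 2
  swap
  · -- odd `p`: the Sylow subgroup is cyclic
    haveI hPc : IsCyclic ↥(P : Subgroup ↥H) := by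
      by_contra hnc
      exact hp2 (Classification.classification_of_cyclic_normal_abelian P.isPGroup' hcyc hnc).1
    obtain ⟨a, ha⟩ := IsCyclic.exists_zpow_surjective (G := ↥(P : Subgroup ↥H))
    have hpows : ∀ w : ↥H, w ∈ (P : Subgroup ↥H) → ∃ j : ℕ, w = (a : ↥H) ^ j := by
      intro w hw
      obtain ⟨i, hi⟩ := ha ⟨w, hw⟩
      obtain ⟨j, hj⟩ := (isOfFinOrder_of_finite a).mem_powers_iff_mem_zpowers.mpr
        (Subgroup.mem_zpowers_iff.mpr ⟨i, rfl⟩)
      exact ⟨j, by rw [← Subgroup.coe_pow]; exact congrArg Subtype.val (hi.symm.trans hj.symm)⟩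
    refine false_of_cyclic hp2 hpq hq hperf hirr (normal_eq_bot hH hperf hsol P) (a := (a : ↥H))
      ?_ ?_ ?_ ?_
    · intro h1
      refine hPne ((Subgroup.eq_bot_iff_forall _).mpr fun w hw => ?_)
      obtain ⟨j, rfl⟩ := hpows w hw
      rw [h1, one_pow]
    · obtain ⟨k, hk⟩ := (IsPGroup.iff_orderOf.mp P.isPGroup') a
      exact ⟨k, by rw [Subgroup.orderOf_coe, hk]⟩
    · intro g v
      obtain ⟨w, hw, he⟩ := exists_sylow_apply_eq hH P g v
      obtain ⟨j, rfl⟩ := hpows w hw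
      exact ⟨j, he⟩
    · intro U hU
      refine hPirr U fun w hw x hx => ?_
      obtain ⟨j, rfl⟩ := hpows w hw
      induction j with
      | zero => rwa [pow_zero, one_smul]
      | succ j ih =>
        rw [pow_succ', mul_smul]
        exact hU _ (ih (pow_mem a.2 j))
  subst hp2
  refine hns (isSolvable_of_finrank_le_two ?_ hq hH hperf)
  have hnb : ∀ a : ↥(P : Subgroup ↥H), (∀ w, w ∈ Subgroup.zpowers a) →
      ¬ ∃ W : ZMod 2 → Submodule (ZMod q) V,
        BlockSystem W {t | ∃ j : ℕ, t = ((a : ↥H) : V ≃ₗ[ZMod q] V) ^ j} := by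
    rintro a ha ⟨W, hW⟩
    refine hblocks ⟨W, ⟨hW.bij, hW.ne_bot, ?_⟩⟩
    rintro t ⟨w, hw, rfl⟩
    obtain ⟨j, hj⟩ := (isOfFinOrder_of_finite a).mem_powers_iff_mem_zpowers.mpr (ha ⟨w, hw⟩)
    refine hW.shift _ ⟨j, ?_⟩
    rw [← Subgroup.coe_pow, ← Subgroup.coe_pow]
    exact congrArg (fun x : ↥(P : Subgroup ↥H) => ((x : ↥H) : V ≃ₗ[ZMod q] V)) hj.symm
  have hUpow : ∀ (a : ↥(P : Subgroup ↥H)) (U : Submodule (ZMod q) V),
      (∀ x ∈ U, a • x ∈ U) → ∀ w ∈ Subgroup.zpowers a, ∀ x ∈ U, w • x ∈ U := by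
    intro a U hU w hw x hx
    obtain ⟨j, rfl⟩ := (isOfFinOrder_of_finite a).mem_powers_iff_mem_zpowers.mpr hw
    clear hw
    induction j with
    | zero =>
      show a ^ 0 • x ∈ U
      rwa [pow_zero, one_smul]
    | succ j ih =>
      show a ^ (j + 1) • x ∈ U
      rw [pow_succ', mul_smul]
      exact hU _ ih
  by_cases hPc : IsCyclic ↥(P : Subgroup ↥H)
  · -- cyclic
    obtain ⟨a, ha⟩ := IsCyclic.exists_zpow_surjective (G := ↥(P : Subgroup ↥H))
    have haP : ∀ w, w ∈ Subgroup.zpowers a := fun w => Subgroup.mem_zpowers_iff.mpr (ha w)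
    have hirrA : ∀ U : Submodule (ZMod q) V,
        (∀ x ∈ U, ((a : ↥H) : V ≃ₗ[ZMod q] V) x ∈ U) → U = ⊥ ∨ U = ⊤ := fun U hU =>
      hPirr U fun w hw x hx => hUpow a U hU ⟨w, hw⟩ (haP _) x hx
    obtain ⟨E, hE1, hE2, hE3, ⟨M⟩⟩ := exists_cyclicModel _ hirrA
    obtain ⟨n, hn⟩ := (IsPGroup.iff_orderOf.mp P.isPGroup') a
    obtain ⟨k, rfl⟩ : ∃ k, n = k + 1 := ⟨n - 1, by
      rcases n with _ | n
      · rw [pow_zero, orderOf_eq_one_iff] at hn
        subst hn
        refine absurd ((Subgroup.eq_bot_iff_forall _).mpr fun w hw => ?_) hPne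
        have := haP ⟨w, hw⟩
        rw [Subgroup.zpowers_one_eq_bot, Subgroup.mem_bot] at this
        exact congrArg Subtype.val this
      · omega⟩
    exact M.finrank_le_two_of_not_blocks rfl
      (by rw [Subgroup.orderOf_coe, Subgroup.orderOf_coe, hn]) (hnb a haP) hpq
  obtain ⟨-, hcls⟩ := Classification.classification_of_cyclic_normal_abelian P.isPGroup' hcyc hPc
  obtain ⟨a, g, n, r, hn2, hao, hcard, hg, hr, h4⟩ :=
    exists_index_two_inverting P.isPGroup' hPc hcls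
  have hidx : (Subgroup.zpowers a).index = 2 := by
    have h := (Subgroup.zpowers a).card_mul_index
    rw [Nat.card_zpowers, hao, hcard, mul_comm 2] at h
    exact Nat.eq_of_mul_eq_mul_left (Nat.two_pow_pos n) h
  haveI hAn : (Subgroup.zpowers a).Normal := Subgroup.normal_of_index_eq_two hidx
  have hg2 : g * g ∈ Subgroup.zpowers a := Subgroup.mul_self_mem_of_index_two hidx g
  have hdec : ∀ w, w ∈ Subgroup.zpowers a ∨ g⁻¹ * w ∈ Subgroup.zpowers a := fun w => by
    by_cases hw : w ∈ Subgroup.zpowers a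
    · exact Or.inl hw
    · refine Or.inr ((Subgroup.mul_mem_iff_of_index_two hidx).mpr ?_)
      rw [inv_mem_iff]
      exact iff_of_false hg hw
  -- `a` is irreducible
  have hirrA : ∀ U : Submodule (ZMod q) V,
      (∀ x ∈ U, ((a : ↥H) : V ≃ₗ[ZMod q] V) x ∈ U) → U = ⊥ ∨ U = ⊤ := by
    intro U hU
    by_contra hcon
    push Not at hcon
    have hUA : ∀ w ∈ Subgroup.zpowers a, ∀ x ∈ U, w • x ∈ U := hUpow a U hU
    set U' := U.map (((g : ↥H) : V ≃ₗ[ZMod q] V) : V →ₗ[ZMod q] V) with hU'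
    have hmem' : ∀ y, y ∈ U' ↔ ∃ x ∈ U, g • x = y := fun y => Submodule.mem_map
    have hU'A : ∀ w ∈ Subgroup.zpowers a, ∀ x ∈ U', w • x ∈ U' := by
      intro w hw y hy
      obtain ⟨x, hx, rfl⟩ := (hmem' y).mp hy
      refine (hmem' _).mpr ⟨(g⁻¹ * w * g) • x, hUA _ ?_ x hx, ?_⟩
      · simpa using hAn.conj_mem w hw g⁻¹
      · rw [← mul_smul, ← mul_smul]; congr 1; group
    have hgU : ∀ x ∈ U, g • x ∈ U' := fun x hx => (hmem' _).mpr ⟨x, hx, rfl⟩
    have hgU' : ∀ y ∈ U', g • y ∈ U := by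
      intro y hy
      obtain ⟨x, hx, rfl⟩ := (hmem' y).mp hy
      rw [← mul_smul]
      exact hUA _ hg2 x hx
    have hinv : ∀ S : Submodule (ZMod q) V, (∀ w ∈ Subgroup.zpowers a, ∀ x ∈ S, w • x ∈ S) →
        (∀ x ∈ S, g • x ∈ S) → S = ⊥ ∨ S = ⊤ := by
      intro S h1 h2
      refine hPirr S fun w hw x hx => ?_
      rcases hdec ⟨w, hw⟩ with h | h
      · exact h1 _ h x hx
      · have := h2 _ (h1 _ h x hx)
        rwa [← mul_smul, mul_inv_cancel_left] at this
    have hinf : U ⊓ U' = ⊥ := by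
      refine (hinv _ (fun w hw x hx => Submodule.mem_inf.mpr ⟨hUA w hw x hx.1, hU'A w hw x hx.2⟩)
        fun x hx => Submodule.mem_inf.mpr ⟨hgU' x hx.2, hgU x hx.1⟩).resolve_right fun h => ?_
      exact hcon.2 (eq_top_iff.mpr (h ▸ inf_le_left))
    have hsup : U ⊔ U' = ⊤ := by
      refine (hinv _ (fun w hw x hx => ?_) fun x hx => ?_).resolve_left fun h => ?_
      · obtain ⟨y, hy, z, hz, rfl⟩ := Submodule.mem_sup.mp hx
        rw [smul_add]
        exact Submodule.add_mem_sup (hUA w hw y hy) (hU'A w hw z hz)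
      · obtain ⟨y, hy, z, hz, rfl⟩ := Submodule.mem_sup.mp hx
        rw [smul_add, add_comm]
        exact Submodule.add_mem_sup (hgU' z hz) (hgU y hy)
      · exact hcon.1 (sup_eq_bot_iff.mp h).1
    let W : ZMod 2 → Submodule (ZMod q) V := fun i => if i = 0 then U else U'
    have hW0 : W 0 = U := if_pos rfl
    have hW1 : W 1 = U' := if_neg zmod2_one_ne_zero
    have hsum : ∀ f : (i : ZMod 2) → W i, ∑ i, (f i : V) = (f 0 : V) + (f 1 : V) := fun f =>
      Fintype.sum_eq_add 0 1 zmod2_one_ne_zero.symm fun i hi =>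
        ((zmod2_cases i).elim hi.1 hi.2).elim
    refine hblocks ⟨W, ⟨⟨?_, ?_⟩, ?_, ?_⟩⟩
    · intro f f' hff
      simp only [hsum] at hff
      have h0 : (f 0 : V) - f' 0 = f' 1 - f 1 := by
        rw [sub_eq_sub_iff_add_eq_add, hff, add_comm]
      have h1 : (f 0 : V) - f' 0 ∈ U ⊓ U' :=
        ⟨hW0 ▸ sub_mem (f 0).2 (f' 0).2, h0 ▸ (hW1 ▸ sub_mem (f' 1).2 (f 1).2)⟩
      rw [hinf, Submodule.mem_bot] at h1
      funext i
      apply Subtype.ext
      rcases zmod2_cases i with rfl | rfl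
      · exact sub_eq_zero.mp h1
      · rw [h1, eq_comm, sub_eq_zero] at h0
        exact h0.symm
    · intro v
      obtain ⟨y, hy, z, hz, rfl⟩ := Submodule.mem_sup.mp (hsup.symm ▸ Submodule.mem_top (x := v))
      refine ⟨fun i => if h : i = 0 then ⟨y, by rw [h, hW0]; exact hy⟩
        else ⟨z, by
          rw [(zmod2_cases i).resolve_left h, hW1]; exact hz⟩, ?_⟩
      simp [hsum]
    · intro i
      rcases zmod2_cases i with rfl | rfl
      · rw [hW0]; exact hcon.1
      · rw [hW1, hU', Ne, Submodule.map_eq_bot_iff]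
        exact hcon.1
    · rintro t ⟨w, hw, rfl⟩
      rcases hdec ⟨w, hw⟩ with h | h
      · refine ⟨0, fun i x hx => ?_⟩
        rw [add_zero]
        rcases zmod2_cases i with rfl | rfl
        · rw [hW0] at hx ⊢; exact hUA _ h x hx
        · rw [hW1] at hx ⊢; exact hU'A _ h x hx
      · refine ⟨1, fun i x hx => ?_⟩
        have he : w • x = g • ((g⁻¹ * (⟨w, hw⟩ : ↥(P : Subgroup ↥H))) • x) := by
          rw [← mul_smul, mul_inv_cancel_left]; rfl
        show w • x ∈ _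
        rw [he]
        rcases zmod2_cases i with rfl | rfl
        · rw [zero_add, hW1]; rw [hW0] at hx; exact hgU _ (hUA _ h x hx)
        · rw [zmod2_one_add_one, hW0]; rw [hW1] at hx
          exact hgU' _ (hU'A _ h x hx)
  obtain ⟨E, hE1, hE2, hE3, ⟨M⟩⟩ := exists_cyclicModel _ hirrA
  refine finrank_le_two_of_inverting M hpq hn2 ?_ (G := ((g : ↥H) : V ≃ₗ[ZMod q] V)) ?_ ?_ h4
  · rw [Subgroup.orderOf_coe, Subgroup.orderOf_coe, hao]
  · intro x
    have h1 : g * a = a ^ r * g := mul_inv_eq_iff_eq_mul.mp hr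
    have h2 : (g * a) • x = (a ^ r * g) • x := by rw [h1]
    rw [mul_smul, mul_smul] at h2
    rw [← Subgroup.coe_pow, ← Subgroup.coe_pow]
    exact h2
  · have h1 : g * g * a * (g * g)⁻¹ = a := by
      obtain ⟨i, hi⟩ := Subgroup.mem_zpowers_iff.mp hg2
      rw [← hi]; group
    have h2 : a ^ (r * r) = a := by
      calc a ^ (r * r) = (g * a * g⁻¹) ^ r := by rw [hr, pow_mul]
        _ = g * (g * a * g⁻¹) * g⁻¹ := by rw [conj_pow, hr]
        _ = a := by
          conv_rhs => rw [← h1]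
          group
    rw [← Subgroup.coe_pow, ← Subgroup.coe_pow, h2]

end Cfsg.Agent.Lib.PowerOrbits
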