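import Mathlib.Algebra.MonoidAlgebra.Basic
import Mathlib.Algebra.CharP.Lemmas
import Mathlib.Algebra.CharP.Algebra
import Mathlib.GroupTheory.SpecificGroups.Cyclic
import Mathlib.Data.ZMod.Basic

/-!
# Schur: simple groups with a regular cyclic subgroup of prime-power order

Functions invariant under a point stabiliser are constant on the fibres of multiplication by `p`
away from the kernel.
-/

set_option autoImplicit false

namespace Cfsg.Agent.Lib.PowerOrbits

open scoped Classical

variable {H : Type*} [Group H] {n : ℕ} [NeZero n]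

/-- The action has all translations. -/
def HasTranslations (act : H →* Equiv.Perm (ZMod n)) : Prop :=
  ∀ c : ZMod n, ∃ g : H, ∀ j, act g j = j + c

/-- Moving along `u` gives again an element of the stabiliser of `0`. -/
theorem exists_stab {act : H →* Equiv.Perm (ZMod n)} (ht : HasTranslations act) (g : H)
    (u : ZMod n) : ∃ g' : H, act g' 0 = 0 ∧ ∀ j, act g' j = act g (u + j) - act g u := by
  obtain ⟨s, hs⟩ := ht u
  obtain ⟨r, hr⟩ := ht (-(act g u))
  refine ⟨r * g * s, ?_, fun j => ?_⟩
  · simp [map_mul, Equiv.Perm.mul_apply, hs, hr]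
  · rw [map_mul, map_mul, Equiv.Perm.mul_apply, Equiv.Perm.mul_apply, hs, hr, add_comm j u,
      sub_eq_add_neg]

/-- `f` is invariant under the stabiliser of `0`. -/
def StabInvariant (act : H →* Equiv.Perm (ZMod n)) {β : Type*} (f : ZMod n → β) : Prop :=
  ∀ g : H, act g 0 = 0 → ∀ j, f (act g j) = f j

variable {act : H →* Equiv.Perm (ZMod n)}

theorem stabInvariant_one {R : Type*} [CommRing R] :
    StabInvariant act (fun j => (1 : AddMonoidAlgebra R (ZMod n)).coeff j) := by
  intro g hg j
  show (1 : AddMonoidAlgebra R (ZMod n)).coeff (act g j) = (1 : AddMonoidAlgebra R (ZMod n)).coeff j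
  rw [AddMonoidAlgebra.one_def, AddMonoidAlgebra.coeff_single, Finsupp.single_apply,
    Finsupp.single_apply]
  have h : (0 : ZMod n) = act g j ↔ (0 : ZMod n) = j := by
    rw [← hg]
    exact ⟨fun h => by rw [hg]; exact (act g).injective h, fun h => by rw [hg] at h; rw [← h]⟩
  simp [h]

theorem stabInvariant_mul (ht : HasTranslations act) {R : Type*} [CommRing R]
    {x y : AddMonoidAlgebra R (ZMod n)} (hx : StabInvariant act fun j => x.coeff j)
    (hy : StabInvariant act fun j => y.coeff j) :
    StabInvariant act fun j => (x * y).coeff j := by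
  have hmul : ∀ v : ZMod n, (x * y).coeff v = ∑ u : ZMod n, x.coeff u * y.coeff (v - u) := by
    intro v
    rw [AddMonoidAlgebra.coeff_mul]
    rw [Finsupp.sum_fintype _ _ (fun _ => by simp)]
    refine Finset.sum_congr rfl fun u _ => ?_
    rw [Finsupp.sum_fintype _ _ (fun _ => by simp)]
    rw [Finset.sum_eq_single (v - u) (fun b _ hb => if_neg fun h => hb (by rw [← h]; abel))
      (fun h => absurd (Finset.mem_univ _) h)]
    simp
  intro g hg j
  show (x * y).coeff (act g j) = (x * y).coeff j
  rw [hmul, hmul, ← Equiv.sum_comp (act g)]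
  refine Finset.sum_congr rfl fun u _ => ?_
  obtain ⟨g', hg', hg''⟩ := exists_stab ht g u
  have h1 : act g j - act g u = act g' (j - u) := by rw [hg'', add_sub_cancel]
  rw [h1]
  exact congrArg₂ (· * ·) (hx g hg u) (hy g' hg' (j - u))

theorem stabInvariant_pow (ht : HasTranslations act) {R : Type*} [CommRing R]
    {x : AddMonoidAlgebra R (ZMod n)} (hx : StabInvariant act fun j => x.coeff j) (m : ℕ) :
    StabInvariant act fun j => (x ^ m).coeff j := by
  induction m with
  | zero => rw [pow_zero]; exact stabInvariant_one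
  | succ m ih => rw [pow_succ]; exact stabInvariant_mul ht ih hx

/-- A nontrivial proper subgroup invariant under the stabiliser of `0`: it gives blocks. -/
structure InvariantSubgroup (act : H →* Equiv.Perm (ZMod n)) (U : AddSubgroup (ZMod n)) : Prop where
  ne_bot : U ≠ ⊥
  ne_top : U ≠ ⊤
  invariant : ∀ g : H, act g 0 = 0 → ∀ v ∈ U, act g v ∈ U

theorem InvariantSubgroup.sub_mem (ht : HasTranslations act) {U : AddSubgroup (ZMod n)}
    (hU : InvariantSubgroup act U) (g : H) (u w : ZMod n) (hw : w ∈ U) :
    act g (u + w) - act g u ∈ U := by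
  obtain ⟨g', hg', hg''⟩ := exists_stab ht g u
  exact hg'' w ▸ hU.invariant g' hg' w hw

/-- Schur's lemma on fibres: constant on fibres or blocks. -/
theorem fibre_invariant_or {p k : ℕ} [hp : Fact p.Prime]
    {act : H →* Equiv.Perm (ZMod (p ^ (k + 1)))} (ht : HasTranslations act)
    {β : Type*} {f : ZMod (p ^ (k + 1)) → β} (hf : StabInvariant act f)
    {j z : ZMod (p ^ (k + 1))} (hj : p • j ≠ 0) (hz : p • z = 0) :
    f (j + z) = f j ∨ ∃ U, InvariantSubgroup act U := by
  set T : Finset (ZMod (p ^ (k + 1))) :=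
    Finset.univ.filter fun t => ∃ g : H, act g 0 = 0 ∧ act g j = t with hT
  by_cases hmem : j + z ∈ T
  · obtain ⟨g, hg, hgj⟩ := (Finset.mem_filter.mp hmem).2
    left
    rw [← hgj, hf g hg j]
  right
  set x : AddMonoidAlgebra (ZMod p) (ZMod (p ^ (k + 1))) :=
    ∑ t ∈ T, AddMonoidAlgebra.single t 1 with hx
  have hxc : ∀ v, x.coeff v = if v ∈ T then 1 else 0 := by
    intro v
    rw [hx, AddMonoidAlgebra.coeff_sum, Finsupp.finsetSum_apply]
    simp [Finsupp.single_apply]
  have hxinv : StabInvariant act fun v => x.coeff v := by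
    intro g hg v
    have hiff : act g v ∈ T ↔ v ∈ T := by
      simp only [hT, Finset.mem_filter, Finset.mem_univ, true_and]
      constructor
      · rintro ⟨g', hg', h'⟩
        refine ⟨g⁻¹ * g', ?_, ?_⟩
        · rw [map_mul, Equiv.Perm.mul_apply, hg', map_inv, Equiv.Perm.inv_eq_iff_eq, hg]
        · rw [map_mul, Equiv.Perm.mul_apply, h', map_inv, Equiv.Perm.inv_eq_iff_eq]
      · rintro ⟨g', hg', h'⟩
        exact ⟨g * g', by rw [map_mul, Equiv.Perm.mul_apply, hg', hg],
          by rw [map_mul, Equiv.Perm.mul_apply, h']⟩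
    show x.coeff (act g v) = x.coeff v
    rw [hxc, hxc]
    simp only [hiff]
  haveI : CharP (AddMonoidAlgebra (ZMod p) (ZMod (p ^ (k + 1)))) p :=
    charP_of_injective_ringHom (f := AddMonoidAlgebra.singleZeroRingHom) (fun a b h => by
      simpa using h) p
  have hxp : x ^ p = ∑ t ∈ T, AddMonoidAlgebra.single (p • t) 1 := by
    rw [hx, sum_pow_char]
    refine Finset.sum_congr rfl fun t _ => ?_
    rw [AddMonoidAlgebra.single_pow, one_pow]
  have hxpc : ∀ v, (x ^ p).coeff v = ((T.filter fun t => p • t = v).card : ZMod p) := by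
    intro v
    rw [hxp, AddMonoidAlgebra.coeff_sum, Finsupp.finsetSum_apply]
    simp [Finsupp.single_apply, Finset.sum_boole]
  have hinv := stabInvariant_pow ht hxinv p
  set Y : Set (ZMod (p ^ (k + 1))) := {v | (x ^ p).coeff v ≠ 0} with hY
  set U := AddSubgroup.closure Y with hU
  -- `p • j` lies in `Y`
  have hjY : p • j ∈ Y := by
    show (x ^ p).coeff (p • j) ≠ 0
    rw [hxpc]
    intro h0
    rw [ZMod.natCast_eq_zero_iff] at h0
    have hpos : 0 < (T.filter fun t => p • t = p • j).card :=
      Finset.card_pos.mpr ⟨j, Finset.mem_filter.mpr ⟨Finset.mem_filter.mpr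
        ⟨Finset.mem_univ _, 1, by simp, by simp⟩, rfl⟩⟩
    have hlt : (T.filter fun t => p • t = p • j).card < p := by
      set Z := Finset.univ.filter fun w : ZMod (p ^ (k + 1)) => p • w = 0 with hZ
      have hZc : Z.card ≤ p := IsAddCyclic.card_nsmul_eq_zero_le hp.out.pos
      refine lt_of_lt_of_le ?_ hZc
      rw [← Finset.card_map (addLeftEmbedding (-j))]
      refine Finset.card_lt_card (Finset.ssubset_iff_subset_ne.mpr ⟨fun w hw => ?_, fun he => ?_⟩)
      · obtain ⟨t, ht', rfl⟩ := Finset.mem_map.mp hw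
        refine Finset.mem_filter.mpr ⟨Finset.mem_univ _, ?_⟩
        rw [addLeftEmbedding_apply, smul_add, (Finset.mem_filter.mp ht').2, smul_neg, neg_add_cancel]
      · have hz' : z ∈ Z := Finset.mem_filter.mpr ⟨Finset.mem_univ _, hz⟩
        rw [← he] at hz'
        obtain ⟨t, ht', htz⟩ := Finset.mem_map.mp hz'
        rw [addLeftEmbedding_apply] at htz
        apply hmem
        rw [← htz, add_neg_cancel_left]
        exact (Finset.mem_filter.mp ht').1
    exact absurd (Nat.le_of_dvd hpos h0) (not_le.mpr hlt)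
  -- `U` consists of multiples of `p`
  have hUle : ∀ v ∈ U, ∃ w, p • w = v := by
    intro v hv
    induction hv using AddSubgroup.closure_induction with
    | mem v hv =>
      by_contra hcon
      push Not at hcon
      apply hv
      rw [hxpc, Finset.filter_false_of_mem (fun t _ => hcon t), Finset.card_empty, Nat.cast_zero]
    | zero => exact ⟨0, smul_zero _⟩
    | add a b _ _ ha hb =>
      obtain ⟨a', rfl⟩ := ha
      obtain ⟨b', rfl⟩ := hb
      exact ⟨a' + b', smul_add _ _ _⟩
    | neg a _ ha =>
      obtain ⟨a', rfl⟩ := ha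
      exact ⟨-a', smul_neg _ _⟩
  -- `U` is invariant under the stabiliser
  have hUinv : ∀ g : H, act g 0 = 0 → ∀ v ∈ U, act g v ∈ U := by
    intro g hg v hv
    induction hv using AddSubgroup.closure_induction generalizing g with
    | mem v hv =>
      refine AddSubgroup.subset_closure ?_
      show (x ^ p).coeff (act g v) ≠ 0
      have := hinv g hg v
      simp only at this
      rw [this]
      exact hv
    | zero => rw [hg]; exact zero_mem _
    | add a b _ _ ha hb =>
      obtain ⟨g', hg', hg''⟩ := exists_stab ht g a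
      have h1 : act g (a + b) = act g a + act g' b := by rw [hg'']; abel
      rw [h1]
      exact add_mem (ha g hg) (hb g' hg')
    | neg a _ ha =>
      obtain ⟨g', hg', hg''⟩ := exists_stab ht g (-a)
      have h1 : act g (-a) = -act g' a := by rw [hg'', neg_add_cancel, hg]; abel
      rw [h1]
      exact neg_mem (ha g' hg')
  refine ⟨U, ⟨fun h0 => hj ?_, fun htop => ?_, hUinv⟩⟩
  · have h1 : p • j ∈ U := AddSubgroup.subset_closure hjY
    rwa [h0, AddSubgroup.mem_bot] at h1
  · obtain ⟨w, hw⟩ := hUle 1 (htop ▸ AddSubgroup.mem_top _)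
    have h2 : (p ^ k) • (p • w) = 0 := by
      rw [← mul_smul, ← pow_succ, nsmul_eq_mul, ZMod.natCast_self, zero_mul]
    rw [hw, nsmul_eq_mul, mul_one, ZMod.natCast_eq_zero_iff] at h2
    exact absurd (Nat.le_of_dvd (pow_pos hp.out.pos k) h2)
      (not_le.mpr (Nat.pow_lt_pow_right hp.out.one_lt (Nat.lt_succ_self k)))

/-- Schur's lemma on fibres. -/
theorem fibre_invariant {p k : ℕ} [hp : Fact p.Prime] {act : H →* Equiv.Perm (ZMod (p ^ (k + 1)))}
    (ht : HasTranslations act)
    (hsimple : ∀ M : Subgroup H, M.Normal → M ≠ ⊤ → ∀ g ∈ M, act g = 1)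
    {β : Type*} {f : ZMod (p ^ (k + 1)) → β} (hf : StabInvariant act f)
    {j z : ZMod (p ^ (k + 1))} (hj : p • j ≠ 0) (hz : p • z = 0) : f (j + z) = f j := by
  rcases fibre_invariant_or ht hf hj hz with h | ⟨U, hU⟩
  · exact h
  exfalso
  have hblock := hU.sub_mem ht
  -- the elements fixing all cosets of `U`
  let M : Subgroup H :=
    { carrier := {g | ∀ u, act g u - u ∈ U}
      one_mem' := fun u => by simp
      mul_mem' := fun {a b} ha hb u => by
        rw [map_mul, Equiv.Perm.mul_apply, ← sub_add_sub_cancel _ (act b u) u]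
        exact add_mem (ha _) (hb u)
      inv_mem' := fun {a} ha u => by
        have := ha ((act a⁻¹) u)
        rw [← Equiv.Perm.mul_apply, ← map_mul, mul_inv_cancel, map_one, Equiv.Perm.one_apply] at this
        rw [← neg_sub]
        exact neg_mem this }
  have hMn : M.Normal := by
    refine ⟨fun m hm g u => ?_⟩
    rw [map_mul, map_mul, Equiv.Perm.mul_apply, Equiv.Perm.mul_apply]
    set u' := act g⁻¹ u with hu'
    have hu : act g u' = u := by
      rw [hu', ← Equiv.Perm.mul_apply, ← map_mul, mul_inv_cancel, map_one, Equiv.Perm.one_apply]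
    rw [← hu]
    have := hblock g u' _ (hm u')
    rwa [add_sub_cancel] at this
  have hMtop : M ≠ ⊤ := fun htop => hU.ne_top (eq_top_iff.mpr fun v _ => by
    obtain ⟨g, hg⟩ := ht v
    have h1 := (htop ▸ Subgroup.mem_top g : g ∈ M) 0
    rwa [hg, zero_add, sub_zero] at h1)
  obtain ⟨v, hv, hv0⟩ := (U.bot_or_exists_ne_zero).resolve_left hU.ne_bot
  obtain ⟨g, hg⟩ := ht v
  have hgM : g ∈ M := fun u => by rw [hg, add_sub_cancel_left]; exact hv
  have h1 := hsimple M hMn hMtop g hgM
  have h2 := hg 0
  rw [h1, Equiv.Perm.one_apply, zero_add] at h2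
  exact hv0 h2.symm

end Cfsg.Agent.Lib.PowerOrbits
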