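import Cfsg.Agent.Lib.PowerOrbits.Cyclic
import Cfsg.Agent.Lib.PowerOrbits.Schur
import Cfsg.Agent.Lib.Perm.PrimeDegree
import Mathlib.FieldTheory.Finite.Trace
import Mathlib.RingTheory.Trace.Basic
import Mathlib.GroupTheory.Perm.Sign
import Mathlib.RingTheory.Adjoin.PowerBasis
import Mathlib.LinearAlgebra.Dual.Lemmas

/-!
# Linear groups with prime-power orbits: cyclic irreducible Sylow subgroup, odd prime
-/

set_option autoImplicit false

namespace Cfsg.Agent.Lib.PowerOrbits

open Module MulAction

universe u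

variable {q : ℕ} [hq' : Fact q.Prime] {V : Type u} [AddCommGroup V] [Module (ZMod q) V] [Finite V]
  [Nontrivial V] {p : ℕ} [hp : Fact p.Prime]

theorem false_of_cyclic (hp2 : p ≠ 2) (hpq : p ≠ q) {H : Subgroup (V ≃ₗ[ZMod q] V)} [Finite ↥H]
    (hq : ¬ q ∣ Nat.card ↥H) (hperf : commutator ↥H = ⊤)
    (hirr : ∀ U : Submodule (ZMod q) V, (∀ g : ↥H, ∀ x ∈ U, g • x ∈ U) → U = ⊥ ∨ U = ⊤)
    (hsimple : ∀ M : Subgroup ↥H, M.Normal → M ≠ ⊤ → M = ⊥)
    {a : ↥H} (ha1 : a ≠ 1) (hap : ∃ m, orderOf a = p ^ m)
    (horb : ∀ (g : ↥H) (v : V), ∃ j : ℕ, g • v = a ^ j • v)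
    (hairr : ∀ U : Submodule (ZMod q) V, (∀ x ∈ U, a • x ∈ U) → U = ⊥ ∨ U = ⊤) : False := by
  classical
  haveI : Module.Finite (ZMod q) V := Module.Finite.of_finite
  set b : V ≃ₗ[ZMod q] V := (a : V ≃ₗ[ZMod q] V) with hb
  obtain ⟨E, hE1, hE2, hE3, ⟨M⟩⟩ := exists_cyclicModel b hairr
  obtain ⟨m, hm⟩ := hap
  obtain ⟨k, rfl⟩ : ∃ k, m = k + 1 := ⟨m - 1, by
    rcases m with _ | m
    · rw [pow_zero, orderOf_eq_one_iff] at hm; exact absurd hm ha1
    · omega⟩
  have hbo : orderOf b = p ^ (k + 1) := by rw [hb, Subgroup.orderOf_coe, hm]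
  by_cases hblocks : ∃ W : ZMod p → Submodule (ZMod q) V, BlockSystem W {t | ∃ j : ℕ, t = b ^ j}
  · obtain ⟨W, hW⟩ := hblocks
    refine false_of_blocks hperf hirr (fun g v => ?_) hW
    obtain ⟨j, hj⟩ := horb g v
    exact ⟨b ^ j, ⟨j, rfl⟩, hj.trans (by rw [Subgroup.smul_def, Subgroup.coe_pow]; rfl)⟩
  set e := Module.finrank (ZMod q) V with he
  have hedvd : e ∣ p - 1 := M.finrank_dvd_of_not_blocks hp2 hbo hblocks hpq
  have hep : e ≤ p - 1 := Nat.le_of_dvd (by have := hp.out.two_le; omega) hedvd
  set n := p ^ (k + 1) with hn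
  have hαn : orderOf M.α = n := M.orderOf_α.trans hbo
  haveI : NeZero n := ⟨pow_ne_zero _ hp.out.ne_zero⟩
  -- powers indexed by residues
  set pw : ZMod n → E := fun j => M.α ^ j.val with hpw
  have hmod : ∀ x : ℕ, M.α ^ (x % n) = M.α ^ x := fun x => by
    rw [← hαn]; exact pow_mod_orderOf M.α x
  have hpwcast : ∀ i : ℕ, pw (i : ZMod n) = M.α ^ i := fun i => by
    show M.α ^ (i : ZMod n).val = _
    rw [ZMod.val_natCast, hmod]
  have hpwadd : ∀ i j, pw (i + j) = pw i * pw j := fun i j => by
    show M.α ^ (i + j).val = M.α ^ i.val * M.α ^ j.val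
    rw [← pow_add, ZMod.val_add, hmod]
  have hpw0 : pw 0 = 1 := by simp [hpw]
  have hpwinj : Function.Injective pw := by
    intro i j h
    refine ZMod.val_injective n (pow_injOn_Iio_orderOf ?_ ?_ h)
    · rw [Set.mem_Iio, hαn]; exact ZMod.val_lt i
    · rw [Set.mem_Iio, hαn]; exact ZMod.val_lt j
  set ev : ZMod n → V := fun j => M.φ (pw j) M.v₀ with hev
  have hevinj : Function.Injective ev := fun i j h => hpwinj (M.bij.1 h)
  have hev0 : ev 0 = M.v₀ := by
    show M.φ (pw 0) M.v₀ = _
    rw [hpw0, map_one]; rfl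
  have hpowsmul : ∀ (i : ℕ) (x : V), a ^ i • x = M.φ (M.α ^ i) x := by
    intro i x
    rw [M.φ_pow, Subgroup.smul_def, Subgroup.coe_pow]; rfl
  have hashift : ∀ (i : ℕ) (j : ZMod n), a ^ i • ev j = ev (j + i) := by
    intro i j
    rw [hpowsmul]
    show M.φ (M.α ^ i) (M.φ (pw j) M.v₀) = M.φ (pw (j + i)) M.v₀
    rw [hpwadd, hpwcast, mul_comm, map_mul]; rfl
  -- the permutation action on the orbit
  have hex : ∀ (g : ↥H) (j : ZMod n), ∃ i, g • ev j = ev i := fun g j => by
    obtain ⟨i, hi⟩ := horb g (ev j)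
    exact ⟨j + i, hi.trans (hashift i j)⟩
  choose σ hσ using hex
  have hone : ∀ j, σ 1 j = j := fun j => hevinj (by rw [← hσ, one_smul])
  have hmul : ∀ g h j, σ (g * h) j = σ g (σ h j) := fun g h j =>
    hevinj (by rw [← hσ, ← hσ, ← hσ, mul_smul])
  let act : ↥H →* Equiv.Perm (ZMod n) :=
    { toFun := fun g => ⟨σ g, σ g⁻¹, fun i => by rw [← hmul, inv_mul_cancel, hone],
        fun i => by rw [← hmul, mul_inv_cancel, hone]⟩
      map_one' := Equiv.ext hone
      map_mul' := fun g h => Equiv.ext fun i => hmul g h i }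
  have hact : ∀ g j, g • ev j = ev (act g j) := hσ
  have htr : HasTranslations act := fun c => ⟨a ^ c.val, fun j => hevinj (by
    rw [← hact, hashift, ZMod.natCast_zmod_val])⟩
  have hspan : Submodule.span (ZMod q) (Set.range ev) = ⊤ := by
    rcases hairr (Submodule.span (ZMod q) (Set.range ev)) (fun x hx => by
      induction hx using Submodule.span_induction with
      | mem y hy =>
        obtain ⟨j, rfl⟩ := hy
        have := hashift 1 j
        rw [pow_one] at this
        rw [this]
        exact Submodule.subset_span ⟨_, rfl⟩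
      | zero => rw [smul_zero]; exact zero_mem _
      | add y z _ _ hy hz => rw [smul_add]; exact add_mem hy hz
      | smul r y _ hy => rw [smul_comm]; exact Submodule.smul_mem _ r hy) with h | h
    · exfalso
      have h0 : ev 0 ∈ Submodule.span (ZMod q) (Set.range ev) := Submodule.subset_span ⟨0, rfl⟩
      rw [h, Submodule.mem_bot] at h0
      refine pow_ne_zero 0 (one_ne_zero (α := E)) (M.bij.1 ?_)
      show M.φ (1 ^ 0) M.v₀ = M.φ 0 M.v₀
      rw [one_pow, map_one, map_zero, LinearMap.zero_apply]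
      exact (hev0.symm.trans h0)
    · exact h
  have hfaith : ∀ g, act g = 1 → g = 1 := by
    intro g hg
    apply Subtype.ext
    apply LinearEquiv.toLinearMap_injective
    refine LinearMap.ext_on_range hspan fun j => ?_
    have := hact g j
    rw [hg] at this
    exact this
  have hsimp' : ∀ N : Subgroup ↥H, N.Normal → N ≠ ⊤ → ∀ g ∈ N, act g = 1 := by
    intro N hN hN' g hg
    rw [hsimple N hN hN', Subgroup.mem_bot] at hg
    rw [hg, map_one]
  -- an invariant functional
  have hv₀ : M.v₀ ≠ 0 := by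
    intro h
    refine one_ne_zero (α := E) (M.bij.1 ?_)
    show M.φ 1 M.v₀ = M.φ 0 M.v₀
    rw [h, map_zero, map_zero]
  obtain ⟨φ₀, hφ₀⟩ : ∃ φ₀ : Module.Dual (ZMod q) V, φ₀ M.v₀ ≠ 0 := by
    by_contra hc
    push Not at hc
    exact hv₀ ((Module.forall_dual_apply_eq_zero_iff (ZMod q) M.v₀).mp hc)
  set K := stabilizer ↥H M.v₀ with hK
  haveI := Fintype.ofFinite ↥K
  let Φ : V →ₗ[ZMod q] ZMod q :=
    ∑ g : ↥K, φ₀.comp (((g : ↥H) : V ≃ₗ[ZMod q] V) : V →ₗ[ZMod q] V)
  have hΦ : ∀ v, Φ v = ∑ g : ↥K, φ₀ ((g : ↥H) • v) := fun v => by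
    simp [Φ, LinearMap.sum_apply]; rfl
  have hΦv : Φ M.v₀ ≠ 0 := by
    rw [hΦ, Finset.sum_congr rfl (fun g _ => by rw [show (g : ↥H) • M.v₀ = M.v₀ from g.2]),
      Finset.sum_const, Finset.card_univ, nsmul_eq_mul]
    refine mul_ne_zero ?_ hφ₀
    rw [Ne, ZMod.natCast_eq_zero_iff, ← Nat.card_eq_fintype_card]
    exact fun h => hq (h.trans (Subgroup.card_subgroup_dvd_card K))
  set f : ZMod n → ZMod q := fun j => Φ (ev j) with hf
  have hfinv : StabInvariant act f := by
    intro g hg j
    have hgK : g ∈ K := by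
      show g • M.v₀ = M.v₀
      rw [← hev0, hact, hg]
    show Φ (ev (act g j)) = Φ (ev j)
    rw [← hact, hΦ, hΦ]
    exact Fintype.sum_equiv (Equiv.mulRight ⟨g, hgK⟩) _ _ (fun h => by
      rw [← mul_smul]; rfl)
  -- trace description
  haveI : Module.Finite (ZMod q) E := Module.Finite.of_finite
  let evl : E →ₗ[ZMod q] V :=
    { toFun := fun x => M.φ x M.v₀
      map_add' := fun x y => by rw [map_add, LinearMap.add_apply]
      map_smul' := fun r x => by rw [map_smul, LinearMap.smul_apply, RingHom.id_apply] }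
  haveI : Algebra.IsSeparable (ZMod q) E := inferInstance
  set c : E := ((Algebra.traceForm (ZMod q) E).toDual (traceForm_nondegenerate (ZMod q) E)).symm
    (Φ.comp evl) with hc
  have hfin : Module.finrank (ZMod q) E = e := by
    refine LinearEquiv.finrank_eq (LinearEquiv.ofBijective evl M.bij)
  have hrep : ∀ j, algebraMap (ZMod q) E (f j) =
      ∑ i ∈ Finset.range e, c ^ q ^ i * pw ((q ^ i : ℕ) * j) := by
    intro j
    have h1 := LinearMap.BilinForm.apply_toDual_symm_apply
      (hB := traceForm_nondegenerate (ZMod q) E) (Φ.comp evl) (pw j)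
    rw [← hc, Algebra.traceForm_apply] at h1
    have h2 : f j = Algebra.trace (ZMod q) E (c * pw j) := h1.symm
    rw [h2, FiniteField.algebraMap_trace_eq_sum_pow, Nat.card_zmod, hfin]
    refine Finset.sum_congr rfl fun i _ => ?_
    rw [mul_pow]
    congr 1
    rw [← ZMod.natCast_zmod_val j, ← Nat.cast_mul, hpwcast, hpwcast, mul_comm (q ^ i), pow_mul]
  -- character sums
  have hgeom : ∀ t : ZMod n, t ≠ 0 → ∑ j : ZMod n, pw (t * j) = 0 := by
    intro t ht
    have h1 : ∑ j : ZMod n, pw (t * j) = (∑ j : ZMod n, pw (t * j)) * pw t := by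
      rw [Finset.sum_mul]
      exact Fintype.sum_equiv (Equiv.subRight (1 : ZMod n)) _ _ fun j => by
        rw [← hpwadd, Equiv.subRight_apply]
        congr 1
        ring
    have h2 : (∑ j : ZMod n, pw (t * j)) * (pw t - 1) = 0 := by
      rw [mul_sub, ← h1, mul_one, sub_self]
    refine (mul_eq_zero.mp h2).resolve_right (sub_ne_zero.mpr fun h => ht ?_)
    exact hpwinj (h.trans hpw0.symm)
  set G : ZMod n → E := fun s => ∑ j, algebraMap (ZMod q) E (f j) * pw (-(s * j)) with hG
  set S : Finset (ZMod n) := (Finset.range e).image fun i => ((q ^ i : ℕ) : ZMod n) with hS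
  have hScard : S.card ≤ e := Finset.card_image_le.trans (le_of_eq (Finset.card_range e))
  have hGzero : ∀ s, s ∉ S → G s = 0 := by
    intro s hs
    show ∑ j, algebraMap (ZMod q) E (f j) * pw (-(s * j)) = 0
    simp only [hrep, Finset.sum_mul]
    rw [Finset.sum_comm]
    refine Finset.sum_eq_zero fun i hi => ?_
    have h1 : ∀ j : ZMod n, c ^ q ^ i * pw ((q ^ i : ℕ) * j) * pw (-(s * j)) =
        c ^ q ^ i * pw ((((q ^ i : ℕ) : ZMod n) - s) * j) := fun j => by
      rw [mul_assoc, ← hpwadd]
      congr 2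
      ring
    simp only [h1, ← Finset.mul_sum]
    rw [hgeom _ (sub_ne_zero.mpr fun h => hs (Finset.mem_image.mpr ⟨i, hi, h⟩)), mul_zero]
  have hfinish : ¬ ∀ s, G s = 0 := by
    intro hall
    have h1 : ∑ s, G s = (n : E) * algebraMap (ZMod q) E (f 0) := by
      simp only [hG]
      rw [Finset.sum_comm]
      rw [Fintype.sum_eq_single (0 : ZMod n)]
      · simp [hpw0]
      · intro j hj
        rw [← Finset.mul_sum]
        have h2 : ∑ s : ZMod n, pw (-(s * j)) = ∑ s : ZMod n, pw ((-j) * s) :=
          Finset.sum_congr rfl fun s _ => by congr 1; ring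
        rw [h2, hgeom _ (neg_ne_zero.mpr hj), mul_zero]
    rw [Finset.sum_eq_zero (fun s _ => hall s)] at h1
    rcases mul_eq_zero.mp h1.symm with h2 | h2
    · haveI : CharP E q := charP_of_injective_algebraMap' (ZMod q) q
      rw [hn, Nat.cast_pow] at h2
      have h3 := eq_zero_of_pow_eq_zero h2
      rw [CharP.cast_eq_zero_iff E q] at h3
      exact hpq ((Nat.prime_dvd_prime_iff_eq hq'.out hp.out).mp h3).symm
    · rw [map_eq_zero] at h2
      apply hΦv
      rw [← hev0]
      exact h2
  have hqcop : ∀ i, ¬ p ∣ q ^ i := fun i h =>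
    hpq ((Nat.prime_dvd_prime_iff_eq hp.out hq'.out).mp (hp.out.dvd_of_dvd_pow h))
  have hmulp : ∀ w : ZMod n, p • w ∉ S := by
    intro w hw
    obtain ⟨i, -, hi⟩ := Finset.mem_image.mp hw
    have h1 : (p ^ k) • ((q ^ i : ℕ) : ZMod n) = 0 := by
      rw [hi, ← mul_smul, ← pow_succ, nsmul_eq_mul, ← hn, ZMod.natCast_self, zero_mul]
    rw [nsmul_eq_mul, ← Nat.cast_mul, ZMod.natCast_eq_zero_iff, hn, pow_succ] at h1
    exact hqcop i (Nat.dvd_of_mul_dvd_mul_left (pow_pos hp.out.pos k) h1)
  rcases Nat.eq_zero_or_pos k with hk | hk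
  swap
  · -- `n` is a proper power of `p`
    have hnil : ∀ (w : ℕ), p • ((w : ℕ) : ZMod n) = ((p * w : ℕ) : ZMod n) := fun w => by
      rw [nsmul_eq_mul, Nat.cast_mul]
    refine hfinish fun s => ?_
    by_cases hs : ∃ w, p • w = s
    · obtain ⟨w, rfl⟩ := hs
      exact hGzero _ (hmulp w)
    have hclass : ∀ w : ZMod n, G (s + p • w) = G s := by
      intro w
      show ∑ j, algebraMap (ZMod q) E (f j) * pw (-((s + p • w) * j)) =
        ∑ j, algebraMap (ZMod q) E (f j) * pw (-(s * j))
      set z₀ : ZMod n := ((p ^ k : ℕ) : ZMod n) with hz₀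
      have hpz : p • z₀ = 0 := by
        rw [hz₀, hnil, ← pow_succ', ← hn, ZMod.natCast_self]
      have hout : ∀ t : ZMod n, (¬ ∃ w, p • w = t) →
          ∑ j ∈ Finset.univ.filter (fun j : ZMod n => ¬ p • j = 0),
            algebraMap (ZMod q) E (f j) * pw (-(t * j)) = 0 := by
        intro t ht
        set SS := ∑ j ∈ Finset.univ.filter (fun j : ZMod n => ¬ p • j = 0),
            algebraMap (ZMod q) E (f j) * pw (-(t * j)) with hSS
        have h1 : SS = SS * pw (-(t * z₀)) := by
          rw [hSS, Finset.sum_mul]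
          refine Finset.sum_equiv (Equiv.subRight z₀) (fun j => ?_) (fun j hj => ?_)
          · simp only [Finset.mem_filter, Finset.mem_univ, true_and, Equiv.subRight_apply, smul_sub,
              hpz, sub_zero]
          · have hj' : p • (j - z₀) ≠ 0 := by
              simpa [smul_sub, hpz] using (Finset.mem_filter.mp hj).2
            rw [Equiv.subRight_apply, mul_assoc, ← hpwadd,
              show f j = f (j - z₀) by
                conv_lhs => rw [← sub_add_cancel j z₀]
                exact fibre_invariant htr hsimp' hfinv hj' hpz]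
            congr 2
            ring
        have h2 : SS * (pw (-(t * z₀)) - 1) = 0 := by rw [mul_sub, ← h1, mul_one, sub_self]
        refine (mul_eq_zero.mp h2).resolve_right (sub_ne_zero.mpr fun h => ht ?_)
        have h3 : t * z₀ = 0 := neg_eq_zero.mp (hpwinj (h.trans hpw0.symm))
        rw [← ZMod.natCast_zmod_val t, hz₀, ← Nat.cast_mul, ZMod.natCast_eq_zero_iff] at h3
        replace h3 : p * p ^ k ∣ t.val * p ^ k := by rw [← pow_succ']; exact h3
        obtain ⟨w', hw'⟩ := Nat.dvd_of_mul_dvd_mul_right (pow_pos hp.out.pos k) h3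
        exact ⟨(w' : ZMod n), by rw [hnil, ← hw', ZMod.natCast_zmod_val]⟩
      rw [← Finset.sum_filter_add_sum_filter_not Finset.univ (fun j : ZMod n => p • j = 0),
        ← Finset.sum_filter_add_sum_filter_not Finset.univ (fun j : ZMod n => p • j = 0)
          (f := fun j => algebraMap (ZMod q) E (f j) * pw (-(s * j))),
        hout s hs, hout (s + p • w) (fun ⟨w', hw'⟩ => hs ⟨w' - w, by
          rw [smul_sub, hw', add_sub_cancel_right]⟩)]
      congr 1
      refine Finset.sum_congr rfl fun j hj => ?_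
      have hj0 : p • j = 0 := (Finset.mem_filter.mp hj).2
      congr 3
      rw [add_mul, smul_mul_assoc, mul_comm w j, ← smul_mul_assoc, hj0, zero_mul, add_zero]
    -- some member of the class avoids `S`
    obtain ⟨w, hw⟩ : ∃ w : ZMod n, s + p • w ∉ S := by
      by_contra hc
      push Not at hc
      have hinj : Set.InjOn (fun w : ℕ => s + p • ((w : ℕ) : ZMod n)) (Finset.range p : Set ℕ) := by
        intro w hw w' hw' h
        have hw := Finset.mem_range.mp hw
        have hw' := Finset.mem_range.mp hw'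
        have h1 := add_left_cancel h
        rw [hnil, hnil] at h1
        have hlt : ∀ v, v < p → p * v < n := fun v hv => by
          rw [hn, pow_succ]
          calc p * v < p * p := Nat.mul_lt_mul_of_pos_left hv hp.out.pos
            _ ≤ p ^ k * p := Nat.mul_le_mul_right p (Nat.le_self_pow hk.ne' p)
        have h2 := congrArg ZMod.val h1
        rw [ZMod.val_natCast_of_lt (hlt w hw), ZMod.val_natCast_of_lt (hlt w' hw')] at h2
        exact Nat.eq_of_mul_eq_mul_left hp.out.pos h2
      have h1 := Finset.card_le_card_of_injOn _ (fun w _ => hc _) hinj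
      rw [Finset.card_range] at h1
      have := hp.out.two_le
      omega
    rw [← hclass w]
    exact hGzero _ hw
  · -- prime degree
    have hnp : n = p := by rw [hn, hk, zero_add, pow_one]
    haveI : Fact n.Prime := ⟨by rw [hnp]; exact hp.out⟩
    haveI : MulAction.IsPretransitive act.range (ZMod n) :=
      ⟨fun i j => by
        obtain ⟨g, hg⟩ := htr (j - i)
        exact ⟨⟨act g, g, rfl⟩, by
          show act g i = j
          rw [hg, add_sub_cancel]⟩⟩
    have hns : ¬ Group.IsSolvable act.range := by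
      intro hs
      haveI := hs
      obtain ⟨g, hg⟩ := htr 1
      have h1 : (⟨act g, g, rfl⟩ : act.range) = 1 :=
        DFunLike.congr_fun (hom_eq_one_of_perfect hperf act.rangeRestrict) g
      have h2 := hg 0
      rw [show act g = 1 from congrArg Subtype.val h1, Equiv.Perm.one_apply, zero_add] at h2
      exact one_ne_zero h2.symm
    have h2t := Perm.two_transitive_of_not_solvable (ZMod.card n) act.range hns
    rw [MulAction.is_two_pretransitive_iff] at h2t
    have htwo : ∀ i j : ZMod n, i ≠ j → ∃ g, act g 0 = i ∧ act g 1 = j := by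
      intro i j hij
      obtain ⟨⟨σ', g, rfl⟩, h1, h2⟩ := h2t (a := (0 : ZMod n)) (b := 1) zero_ne_one hij
      exact ⟨g, h1, h2⟩
    have hconst : ∀ j : ZMod n, j ≠ 0 → f j = f 1 := by
      intro j hj
      obtain ⟨g, hg0, hg1⟩ := htwo 0 j (Ne.symm hj)
      rw [← hg1, hfinv g hg0 1]
    have hsame : ∀ s : ZMod n, s ≠ 0 → G s =
        algebraMap (ZMod q) E (f 0) - algebraMap (ZMod q) E (f 1) := by
      intro s hs
      show ∑ j, algebraMap (ZMod q) E (f j) * pw (-(s * j)) = _
      have h1 : ∀ j : ZMod n, algebraMap (ZMod q) E (f j) * pw (-(s * j)) =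
          algebraMap (ZMod q) E (f 1) * pw ((-s) * j) + if j = 0 then
            algebraMap (ZMod q) E (f 0) - algebraMap (ZMod q) E (f 1) else 0 := by
        intro j
        by_cases hj : j = 0
        · subst hj; simp [hpw0]
        · rw [if_neg hj, add_zero, hconst j hj, neg_mul]
      simp only [h1, Finset.sum_add_distrib, ← Finset.mul_sum, Finset.sum_ite_eq', Finset.mem_univ,
        if_true]
      rw [hgeom _ (neg_ne_zero.mpr hs), mul_zero, zero_add]
    have hzero : (0 : ZMod n) ∉ S := by simpa using hmulp 0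
    by_cases hlt : e < n - 1
    · refine hfinish fun s => ?_
      by_cases hs : s = 0
      · exact hs ▸ hGzero _ hzero
      obtain ⟨t, ht, htS⟩ : ∃ t ∈ (Finset.univ : Finset (ZMod n)).erase 0, t ∉ S := by
        by_contra hc
        push Not at hc
        have h1 := Finset.card_le_card hc
        rw [Finset.card_erase_of_mem (Finset.mem_univ _), Finset.card_univ, ZMod.card] at h1
        omega
      rw [hsame s hs, ← hsame t (Finset.ne_of_mem_erase ht)]
      exact hGzero t htS
    -- the full heart: count the orbit of a sum of two points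
    have heq : e = n - 1 := by omega
    by_cases h3 : n = 3
    · obtain ⟨g, hg0, hg1⟩ := htwo 1 0 one_ne_zero
      have hsgn : Equiv.Perm.sign (act g) = 1 :=
        DFunLike.congr_fun (hom_eq_one_of_perfect hperf (Equiv.Perm.sign.comp act)) g
      have hswap : act g = Equiv.swap 0 1 := by
        refine Equiv.ext fun x => ?_
        by_cases hx0 : x = 0
        · rw [hx0, hg0, Equiv.swap_apply_left]
        by_cases hx1 : x = 1
        · rw [hx1, hg1, Equiv.swap_apply_right]
        rw [Equiv.swap_apply_of_ne_of_ne hx0 hx1]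
        by_contra hne
        have h0' : act g x ≠ 0 := fun h => hx1 ((act g).injective (h.trans hg1.symm))
        have h1' : act g x ≠ 1 := fun h => hx0 ((act g).injective (h.trans hg0.symm))
        have h4 := Finset.card_le_univ ({0, 1, x, act g x} : Finset (ZMod n))
        rw [ZMod.card, Finset.card_insert_of_notMem (by simp [Ne.symm hx0, Ne.symm h0']),
          Finset.card_insert_of_notMem (by simp [Ne.symm hx1, Ne.symm h1']),
          Finset.card_pair (Ne.symm hne)] at h4
        omega
      rw [hswap, Equiv.Perm.sign_swap zero_ne_one] at hsgn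
      exact absurd hsgn (by decide)
    have hn5 : 5 ≤ n := by
      have h2 := hp.out.two_le
      rcases Nat.lt_or_ge n 5 with hlt5 | hge
      · interval_cases n
        all_goals first
          | omega
          | (rw [← hnp] at h2; omega)
          | exact absurd hp.out (by rw [show p = 4 by omega]; decide)
      · exact hge
    haveI : Module.Finite (ZMod q) E := Module.Finite.of_finite
    have hint : IsIntegral (ZMod q) M.α := IsIntegral.of_finite (ZMod q) M.α
    have hdeg : (minpoly (ZMod q) M.α).natDegree = e := by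
      rw [← hfin, ← Subalgebra.topEquiv.toLinearEquiv.finrank_eq, ← M.gen,
        (Algebra.adjoin.powerBasis hint).finrank, Algebra.adjoin.powerBasis_dim]
    have hli := linearIndependent_pow (K := ZMod q) M.α
    rw [Fintype.linearIndependent_iff] at hli
    set v := ev 0 + ev 1 with hv
    set O : Finset V := Finset.univ.image fun c : ZMod n => a ^ c.val • v with hO
    let τ : Finset (Fin (minpoly (ZMod q) M.α).natDegree) → V := fun t =>
      M.φ (∑ i ∈ t, M.α ^ (i : ℕ)) M.v₀
    have hτmem : ∀ t ∈ (Finset.univ : Finset (Fin (minpoly (ZMod q) M.α).natDegree)).powersetCard 2,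
        τ t ∈ O := by
      intro t ht
      obtain ⟨i, j, hij, rfl⟩ := Finset.card_eq_two.mp (Finset.mem_powersetCard.mp ht).2
      have hij' : ((i : ℕ) : ZMod n) ≠ ((j : ℕ) : ZMod n) := fun h => hij (Fin.ext (by
        have h' := congrArg ZMod.val h
        rwa [ZMod.val_natCast_of_lt (by have := i.2; omega),
          ZMod.val_natCast_of_lt (by have := j.2; omega)] at h'))
      obtain ⟨g, hg0, hg1⟩ := htwo _ _ hij'
      obtain ⟨c, hc⟩ := horb g v
      refine Finset.mem_image.mpr ⟨(c : ZMod n), Finset.mem_univ _, ?_⟩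
      have hpowmod : a ^ ((c : ZMod n)).val = a ^ c := by
        have ho : orderOf a = n := hm
        rw [ZMod.val_natCast]
        conv_rhs => rw [← pow_mod_orderOf a c, ho]
      rw [hpowmod, ← hc, hv, smul_add, hact, hact, hg0, hg1]
      show M.φ (pw _) M.v₀ + M.φ (pw _) M.v₀ = M.φ (∑ l ∈ {i, j}, M.α ^ (l : ℕ)) M.v₀
      rw [Finset.sum_pair hij, hpwcast, hpwcast, map_add, LinearMap.add_apply]
    have hτinj : Set.InjOn τ
        ((Finset.univ : Finset (Fin (minpoly (ZMod q) M.α).natDegree)).powersetCard 2 :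
          Set (Finset _)) := by
      intro s _ t _ hst
      have h1 := M.bij.1 hst
      have h2 := hli (fun i => (if i ∈ s then 1 else 0) - (if i ∈ t then 1 else 0)) (by
        simp only [sub_smul, Finset.sum_sub_distrib, ite_smul, one_smul, zero_smul,
          Finset.sum_ite_mem, Finset.univ_inter]
        rw [sub_eq_zero]; exact h1)
      ext i
      have := h2 i
      by_cases his : i ∈ s <;> by_cases hit : i ∈ t <;> simp [his, hit] at this ⊢
    have hcount := Finset.card_le_card_of_injOn τ hτmem hτinj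
    rw [Finset.card_powersetCard, Finset.card_univ, Fintype.card_fin, hdeg, heq,
      Nat.choose_two_right] at hcount
    have hOcard : O.card ≤ n := Finset.card_image_le.trans (by simp [ZMod.card])
    have h4 : (n - 1) * (n - 1 - 1) ≤ 2 * n + 1 := by omega
    obtain ⟨r, hr⟩ : ∃ r, n = r + 5 := ⟨n - 5, by omega⟩
    rw [hr] at h4
    simp at h4
    nlinarith

end Cfsg.Agent.Lib.PowerOrbits
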