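import Cfsg.Agent.Lib.PowerOrbits.Schur
import Mathlib.Tactic.LinearCombination
import Mathlib.Tactic.Ring
import Mathlib.Algebra.Field.ZMod

/-!
# Schur: a group with a regular cyclic subgroup of order `p ^ (k + 1)`, `k ≥ 1`, has blocks or is
doubly transitive
-/

set_option autoImplicit false

namespace Cfsg.Agent.Lib.PowerOrbits

open scoped Classical

variable {H : Type*} [Group H] {p k : ℕ} [hp : Fact p.Prime]

theorem nsmul_eq_zero_iff_exists (z : ZMod (p ^ (k + 1))) :
    p • z = 0 ↔ ∃ i < p, z = ((i * p ^ k : ℕ) : ZMod (p ^ (k + 1))) := by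
  constructor
  · intro h
    rw [← ZMod.natCast_zmod_val z, nsmul_eq_mul, ← Nat.cast_mul, ZMod.natCast_eq_zero_iff] at h
    have h' : p * p ^ k ∣ p * z.val := (pow_succ' p k).symm.dvd.trans h
    obtain ⟨i, hi⟩ := (Nat.mul_dvd_mul_iff_left hp.out.pos).mp h'
    refine ⟨i, ?_, by rw [mul_comm, ← hi, ZMod.natCast_zmod_val]⟩
    have h2 := ZMod.val_lt z
    exact Nat.lt_of_mul_lt_mul_left (lt_of_eq_of_lt hi.symm (lt_of_lt_of_eq h2 (pow_succ p k)))
  · rintro ⟨i, -, rfl⟩
    rw [nsmul_eq_mul, ← Nat.cast_mul, ZMod.natCast_eq_zero_iff]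
    exact ⟨i, by ring⟩

/-- The elements killed by `p`. -/
noncomputable def pTorsion (p k : ℕ) [Fact p.Prime] : Finset (ZMod (p ^ (k + 1))) :=
  Finset.univ.filter fun z => p • z = 0

theorem mem_pTorsion {z : ZMod (p ^ (k + 1))} : z ∈ pTorsion p k ↔ p • z = 0 := by
  simp [pTorsion]

theorem card_pTorsion : (pTorsion p k).card = p := by
  refine Finset.card_eq_of_bijective (fun i _ => ((i * p ^ k : ℕ) : ZMod (p ^ (k + 1)))) ?_ ?_ ?_
  · intro z hz
    obtain ⟨i, hi, rfl⟩ := (nsmul_eq_zero_iff_exists z).mp (mem_pTorsion.mp hz)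
    exact ⟨i, hi, rfl⟩
  · exact fun i hi => mem_pTorsion.mpr ((nsmul_eq_zero_iff_exists _).mpr ⟨i, hi, rfl⟩)
  · intro i j hi hj h
    have h1 : i * p ^ k < p ^ (k + 1) := by
      rw [pow_succ']; exact Nat.mul_lt_mul_of_pos_right hi (pow_pos hp.out.pos k)
    have h2 : j * p ^ k < p ^ (k + 1) := by
      rw [pow_succ']; exact Nat.mul_lt_mul_of_pos_right hj (pow_pos hp.out.pos k)
    have h3 := congrArg ZMod.val h
    rw [ZMod.val_natCast_of_lt h1, ZMod.val_natCast_of_lt h2] at h3
    exact Nat.eq_of_mul_eq_mul_right (pow_pos hp.out.pos k) h3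

/-- A periodic function sums to zero modulo `p`. -/
theorem sum_eq_zero_of_periodic (h : ZMod (p ^ (k + 1)) → ZMod p)
    (hper : ∀ u z, p • z = 0 → h (u + z) = h u) : ∑ u, h u = 0 := by
  rw [← Finset.sum_fiberwise Finset.univ (fun u => p • u) h]
  refine Finset.sum_eq_zero fun v _ => ?_
  set S := Finset.univ.filter fun u : ZMod (p ^ (k + 1)) => p • u = v with hS
  rcases S.eq_empty_or_nonempty with h0 | ⟨u₀, hu₀⟩
  · rw [h0, Finset.sum_empty]
  have hS' : S = (pTorsion p k).map (addLeftEmbedding u₀) := by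
    ext u
    simp only [Finset.mem_map, addLeftEmbedding_apply, mem_pTorsion, hS, Finset.mem_filter,
      Finset.mem_univ, true_and] at hu₀ ⊢
    constructor
    · intro hu
      exact ⟨u - u₀, by rw [smul_sub, hu, hu₀, sub_self], add_sub_cancel u₀ u⟩
    · rintro ⟨z, hz, rfl⟩
      rw [smul_add, hz, hu₀, add_zero]
  rw [hS', Finset.sum_map]
  simp only [addLeftEmbedding_apply]
  rw [Finset.sum_congr rfl (fun z hz => hper u₀ z (mem_pTorsion.mp hz)), Finset.sum_const,
    card_pTorsion, nsmul_eq_mul, ZMod.natCast_self, zero_mul]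

variable {act : H →* Equiv.Perm (ZMod (p ^ (k + 1)))}

/-- An invariant set avoiding the torsion gives blocks. -/
theorem exists_invariant_of_avoiding (ht : HasTranslations act) (R : Set (ZMod (p ^ (k + 1))))
    (hR : StabInvariant act (· ∈ R)) (hne : R.Nonempty) (hav : ∀ r ∈ R, p • r ≠ 0) :
    ∃ U, InvariantSubgroup act U := by
  by_contra hcon
  have hper : ∀ r ∈ R, ∀ z, p • z = 0 → r + z ∈ R := by
    intro r hr z hz
    rcases fibre_invariant_or ht hR (hav r hr) hz with h | h
    · exact Eq.mpr h hr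
    · exact absurd h hcon
  let U : AddSubgroup (ZMod (p ^ (k + 1))) :=
    { carrier := {u | ∀ r, r + u ∈ R ↔ r ∈ R}
      zero_mem' := fun r => by rw [add_zero]
      add_mem' := fun {a b} ha hb r => by rw [← add_assoc]; exact (hb _).trans (ha r)
      neg_mem' := fun {a} ha r => by rw [← ha (r + -a), neg_add_cancel_right] }
  apply hcon
  refine ⟨U, ⟨fun h0 => ?_, fun htop => ?_, fun g hg u hu => ?_⟩⟩
  · set z : ZMod (p ^ (k + 1)) := ((1 * p ^ k : ℕ) : ZMod (p ^ (k + 1))) with hz
    have hzp : p • z = 0 := (nsmul_eq_zero_iff_exists z).mpr ⟨1, hp.out.one_lt, rfl⟩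
    have hzU : z ∈ U := fun r => by
      refine ⟨fun hr => ?_, fun hr => hper r hr z hzp⟩
      have := hper _ hr (-z) (by rw [smul_neg, hzp, neg_zero])
      rwa [add_neg_cancel_right] at this
    rw [h0, AddSubgroup.mem_bot, hz, ZMod.natCast_eq_zero_iff, one_mul] at hzU
    exact absurd (Nat.le_of_dvd (pow_pos hp.out.pos k) hzU)
      (not_le.mpr (Nat.pow_lt_pow_right hp.out.one_lt (Nat.lt_succ_self k)))
  · obtain ⟨r, hr⟩ := hne
    have h1 := ((htop ▸ AddSubgroup.mem_top (-r) : -r ∈ U) r).mpr hr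
    rw [add_neg_cancel] at h1
    exact hav 0 h1 (smul_zero p)
  · intro r
    obtain ⟨v, hv⟩ := (act g).surjective (-r)
    obtain ⟨g', hg', hg''⟩ := exists_stab ht g v
    have e1 : r + act g u = act g' (u - v) := by
      rw [hg'', add_sub_cancel, hv, sub_neg_eq_add]
      exact add_comm _ _
    have e2 : r = act g' (-v) := by rw [hg'', add_neg_cancel, hg, hv, zero_sub, neg_neg]
    rw [e1, e2]
    have i1 : (act g' (u - v) ∈ R) = (u - v ∈ R) := hR g' hg' _
    have i2 : (act g' (-v) ∈ R) = (-v ∈ R) := hR g' hg' _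
    rw [i1, i2, show u - v = -v + u by abel]
    exact hu (-v)

/-- An invariant set inside the torsion gives blocks. -/
theorem exists_invariant_of_torsion (hk : 0 < k) (ht : HasTranslations act)
    (R : Set (ZMod (p ^ (k + 1)))) (hR : StabInvariant act (· ∈ R)) {r : ZMod (p ^ (k + 1))}
    (hr : r ∈ R) (hr0 : r ≠ 0) (hin : ∀ r ∈ R, p • r = 0) : ∃ U, InvariantSubgroup act U := by
  refine ⟨AddSubgroup.closure R, ⟨fun h0 => hr0 ?_, fun htop => ?_, ?_⟩⟩
  · have : r ∈ AddSubgroup.closure R := AddSubgroup.subset_closure hr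
    rwa [h0, AddSubgroup.mem_bot] at this
  · have hall : ∀ v ∈ AddSubgroup.closure R, p • v = 0 := by
      intro v hv
      induction hv using AddSubgroup.closure_induction with
      | mem v hv => exact hin v hv
      | zero => exact smul_zero p
      | add a b _ _ ha hb => rw [smul_add, ha, hb, add_zero]
      | neg a _ ha => rw [smul_neg, ha, neg_zero]
    have h1 := hall 1 (htop ▸ AddSubgroup.mem_top _)
    rw [nsmul_eq_mul, mul_one, ZMod.natCast_eq_zero_iff] at h1
    have := Nat.le_of_dvd hp.out.pos h1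
    have h2 : p ^ 1 < p ^ (k + 1) := Nat.pow_lt_pow_right hp.out.one_lt (by omega)
    rw [pow_one] at h2
    omega
  · intro g hg v hv
    induction hv using AddSubgroup.closure_induction generalizing g with
    | mem v hv => exact AddSubgroup.subset_closure (Eq.mpr (hR g hg v) hv)
    | zero => rw [hg]; exact zero_mem _
    | add a b _ _ ha hb =>
      obtain ⟨g', hg', hg''⟩ := exists_stab ht g a
      rw [show act g (a + b) = act g a + act g' b by rw [hg'']; abel]
      exact add_mem (ha g hg) (hb g' hg')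
    | neg a _ ha =>
      obtain ⟨g', hg', hg''⟩ := exists_stab ht g (-a)
      rw [show act g (-a) = -act g' a by rw [hg'', neg_add_cancel, hg]; abel]
      exact neg_mem (ha g' hg')

/-- Schur: if the stabiliser of `0` is not transitive on the rest, there are blocks. -/
theorem exists_invariantSubgroup (hk : 0 < k) (ht : HasTranslations act)
    {v₀ w₀ : ZMod (p ^ (k + 1))} (hv₀ : v₀ ≠ 0) (hw₀ : w₀ ≠ 0)
    (hn : ∀ g : H, act g 0 = 0 → act g v₀ ≠ w₀) : ∃ U, InvariantSubgroup act U := by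
  by_contra hcon
  set O : ZMod (p ^ (k + 1)) → Set (ZMod (p ^ (k + 1))) :=
    fun v => {u | ∃ g : H, act g 0 = 0 ∧ act g v = u} with hO
  have hOinv : ∀ v, StabInvariant act (· ∈ O v) := fun v g hg u => by
    refine propext ⟨?_, ?_⟩
    · rintro ⟨g', hg', h'⟩
      refine ⟨g⁻¹ * g', ?_, ?_⟩
      · rw [map_mul, Equiv.Perm.mul_apply, hg', map_inv, Equiv.Perm.inv_eq_iff_eq, hg]
      · rw [map_mul, Equiv.Perm.mul_apply, h', map_inv, Equiv.Perm.inv_eq_iff_eq]
    · rintro ⟨g', hg', h'⟩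
      exact ⟨g * g', by rw [map_mul, Equiv.Perm.mul_apply, hg', hg],
        by rw [map_mul, Equiv.Perm.mul_apply, h']⟩
  have hOself : ∀ v, v ∈ O v := fun v => ⟨1, by simp, by simp⟩
  have hO0 : ∀ v, v ≠ 0 → ∀ u ∈ O v, u ≠ 0 := by
    rintro v hv _ ⟨g, hg, rfl⟩ h
    exact hv ((act g).injective (h.trans hg.symm))
  -- every orbit meets both parts
  have hmixed : ∀ v, v ≠ 0 → (∃ u ∈ O v, p • u = 0) ∧ ∃ u ∈ O v, p • u ≠ 0 := by
    intro v hv
    constructor
    · by_contra h
      push Not at h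
      exact hcon (exists_invariant_of_avoiding ht _ (hOinv v) ⟨v, hOself v⟩ h)
    · by_contra h
      push Not at h
      exact hcon (exists_invariant_of_torsion hk ht _ (hOinv v) (hOself v) hv h)
  set F : ZMod (p ^ (k + 1)) → ZMod p := fun u => if u ∈ O v₀ then 1 else 0 with hF
  have hFinv : StabInvariant act F := fun g hg u => by
    have h : (act g u ∈ O v₀) = (u ∈ O v₀) := hOinv v₀ g hg u
    simp only [hF, h]
  have hFsq : ∀ u, F u * F u = F u := fun u => by
    simp only [hF]; split_ifs <;> simp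
  have hFper : ∀ u z, p • u ≠ 0 → p • z = 0 → F (u + z) = F u := by
    intro u z hu hz
    rcases fibre_invariant_or ht hFinv hu hz with h | h
    · exact h
    · exact absurd h hcon
  have hFneg : StabInvariant act fun u => F (-u) := fun g hg u => by
    obtain ⟨g', hg', hg''⟩ := exists_stab ht g u
    show F (-(act g u)) = F (-u)
    rw [show -(act g u) = act g' (-u) by rw [hg'', add_neg_cancel, hg, zero_sub]]
    exact hFinv g' hg' _
  set C : ZMod (p ^ (k + 1)) → ZMod p := fun w => ∑ u, F u * F (u - w) with hC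
  have hCinv : StabInvariant act C := fun g hg w => by
    show ∑ u, F u * F (u - act g w) = ∑ u, F u * F (u - w)
    rw [← Equiv.sum_comp (act g)]
    refine Finset.sum_congr rfl fun u _ => ?_
    obtain ⟨g', hg', hg''⟩ := exists_stab ht g w
    have h1 : act g u - act g w = act g' (u - w) := by rw [hg'', add_sub_cancel]
    rw [hFinv g hg u, h1, hFinv g' hg']
  set Z := pTorsion p k with hZ
  set kk := ∑ u ∈ Z, F u with hkk
  have hZadd : ∀ u z, p • z = 0 → (u + z ∈ Z ↔ u ∈ Z) := fun u z hz => by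
    rw [mem_pTorsion, mem_pTorsion, smul_add, hz, add_zero]
  -- the value of `C` outside the torsion
  have hCout : ∀ w, p • w ≠ 0 → C w = kk * (F w + F (-w)) := by
    intro w hw
    have hsplit : ∀ u, F u * F (u - w) = (if u ∈ Z then F u * F (-w) else 0) +
        ((if u - w ∈ Z then F w * F (u - w) else 0) +
          if u ∉ Z ∧ u - w ∉ Z then F u * F (u - w) else 0) := by
      intro u
      by_cases h1 : u ∈ Z
      · have h2 : u - w ∉ Z := fun h2 => hw (by
          rw [mem_pTorsion] at h1 h2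
          rw [smul_sub, h1, zero_sub, neg_eq_zero] at h2
          exact h2)
        have h3 : F (u - w) = F (-w) := by
          rw [sub_eq_neg_add]
          exact hFper _ _ (by rw [smul_neg, neg_ne_zero]; exact hw) (mem_pTorsion.mp h1)
        simp [h1, h2, h3]
      · by_cases h2 : u - w ∈ Z
        · have h3 : F u = F w := by
            have := hFper w (u - w) hw (mem_pTorsion.mp h2)
            rwa [add_sub_cancel] at this
          simp [h1, h2, h3]
        · simp [h1, h2]
    show ∑ u, F u * F (u - w) = _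
    rw [Finset.sum_congr rfl (fun u _ => hsplit u), Finset.sum_add_distrib, Finset.sum_add_distrib,
      sum_eq_zero_of_periodic (fun u => if u ∉ Z ∧ u - w ∉ Z then F u * F (u - w) else 0)
        (fun u z hz => by
          simp only [hZadd u z hz, add_sub_right_comm u z w, hZadd (u - w) z hz]
          split_ifs with h
          · rw [mem_pTorsion, mem_pTorsion] at h
            rw [hFper u z h.1 hz, hFper (u - w) z h.2 hz]
          · rfl),
      add_zero, ← Equiv.sum_comp (Equiv.addRight w) (fun u => if u - w ∈ Z then F w * F (u - w) else 0)]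
    simp only [Equiv.coe_addRight, add_sub_cancel_right, Finset.sum_ite_mem, Finset.univ_inter]
    rw [← Finset.sum_mul, ← Finset.mul_sum, ← hkk]
    ring
  -- and on it
  have hCin : ∀ z, p • z = 0 → C z = ∑ u ∈ Z, F u * F (u - z) := by
    intro z hz
    show ∑ u, F u * F (u - z) = _
    have hsplit : ∀ u, F u * F (u - z) =
        (if u ∈ Z then F u * F (u - z) else 0) + if u ∉ Z then F u else 0 := by
      intro u
      by_cases h1 : u ∈ Z
      · simp [h1]
      · have h3 : F (u - z) = F u := by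
          rw [sub_eq_add_neg]
          exact hFper u _ (fun h => h1 (mem_pTorsion.mpr h)) (by rw [smul_neg, hz, neg_zero])
        simp [h1, h3, hFsq]
    rw [Finset.sum_congr rfl (fun u _ => hsplit u), Finset.sum_add_distrib,
      sum_eq_zero_of_periodic (fun u => if u ∉ Z then F u else 0)
        (fun u z' hz' => by
          simp only [hZadd u z' hz']
          split_ifs with h
          · rfl
          · exact hFper u z' (fun hh => h (mem_pTorsion.mpr hh)) hz'),
      add_zero, Finset.sum_ite_mem, Finset.univ_inter]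
  have hkey : ∀ z ∈ Z.erase 0, ∑ u ∈ Z, F u * F (u - z) = kk * (F z + F (-z)) := by
    intro z hz
    obtain ⟨hz0, hzZ⟩ := Finset.mem_erase.mp hz
    obtain ⟨-, _, ⟨g, hg, rfl⟩, hw⟩ := hmixed z hz0
    rw [← hCin z (mem_pTorsion.mp hzZ), ← hCinv g hg z, hCout _ hw, hFinv g hg z]
    congr 2
    exact hFneg g hg z
  have hF0 : F 0 = 0 := if_neg fun h => hO0 v₀ hv₀ 0 h rfl
  have h0Z : (0 : ZMod (p ^ (k + 1))) ∈ Z := mem_pTorsion.mpr (smul_zero p)
  have hnegsum : ∑ z ∈ Z, F (-z) = kk := by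
    refine Finset.sum_nbij (fun z => -z) ?_ ?_ ?_ (fun z _ => rfl)
    · intro z hz; rw [mem_pTorsion] at hz ⊢; rw [smul_neg, hz, neg_zero]
    · exact neg_injective.injOn
    · intro z hz
      exact ⟨-z, Finset.mem_coe.mpr (mem_pTorsion.mpr (by
        rw [smul_neg, mem_pTorsion.mp (Finset.mem_coe.mp hz), neg_zero])), neg_neg z⟩
  have hsum := Finset.sum_congr rfl hkey
  rw [Finset.sum_erase_eq_sub h0Z, Finset.sum_erase_eq_sub h0Z, neg_zero, hF0, add_zero, mul_zero,
    sub_zero, ← Finset.mul_sum, Finset.sum_add_distrib, hnegsum, ← hkk, Finset.sum_comm] at hsum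
  simp only [sub_zero, hFsq] at hsum
  rw [← hkk] at hsum
  have htr : ∀ u ∈ Z, ∑ z ∈ Z, F u * F (u - z) = F u * kk := by
    intro u hu
    rw [← Finset.mul_sum]
    congr 1
    refine Finset.sum_nbij (fun z => u - z) ?_ sub_right_injective.injOn ?_ (fun z _ => rfl)
    · intro z hz; rw [mem_pTorsion] at hz hu ⊢; rw [smul_sub, hz, hu, sub_zero]
    · intro z hz
      exact ⟨u - z, Finset.mem_coe.mpr (mem_pTorsion.mpr (by
        rw [smul_sub, mem_pTorsion.mp (Finset.mem_coe.mp hz), mem_pTorsion.mp hu, sub_zero])),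
        sub_sub_cancel u z⟩
  rw [Finset.sum_congr rfl htr, ← Finset.sum_mul, ← hkk] at hsum
  have hzero : kk * (kk + 1) = 0 := by linear_combination -hsum
  -- counting
  set A := Z.filter fun u => u ∈ O v₀ with hA
  have hkkA : kk = (A.card : ZMod p) := by
    simp only [hkk, hF, Finset.sum_boole, hA]
  obtain ⟨⟨a, ha, haZ⟩, -⟩ := hmixed v₀ hv₀
  obtain ⟨⟨b, hb, hbZ⟩, -⟩ := hmixed w₀ hw₀
  have hbA : b ∉ A := fun h => by
    obtain ⟨g, hg, hgb⟩ := (Finset.mem_filter.mp h).2
    obtain ⟨g', hg', hgb'⟩ := hb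
    refine hn (g'⁻¹ * g) ?_ ?_
    · rw [map_mul, Equiv.Perm.mul_apply, hg, map_inv, Equiv.Perm.inv_eq_iff_eq, hg']
    · rw [map_mul, Equiv.Perm.mul_apply, hgb, map_inv, Equiv.Perm.inv_eq_iff_eq, hgb']
  have h0A : (0 : ZMod (p ^ (k + 1))) ∉ A := fun h => hO0 v₀ hv₀ 0 (Finset.mem_filter.mp h).2 rfl
  have hlt : A.card + 1 < p := by
    have hsub : A ⊆ (Z.erase 0).erase b := fun u hu =>
      Finset.mem_erase.mpr ⟨fun h => hbA (h ▸ hu),
        Finset.mem_erase.mpr ⟨fun h => h0A (h ▸ hu), (Finset.mem_filter.mp hu).1⟩⟩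
    have h1 := Finset.card_le_card hsub
    rw [Finset.card_erase_of_mem (Finset.mem_erase.mpr ⟨hO0 w₀ hw₀ b hb, mem_pTorsion.mpr hbZ⟩),
      Finset.card_erase_of_mem h0Z, card_pTorsion] at h1
    have h2 : 2 ≤ p := hp.out.two_le
    have h3 : 0 < A.card := Finset.card_pos.mpr ⟨a, Finset.mem_filter.mpr ⟨mem_pTorsion.mpr haZ, ha⟩⟩
    omega
  have hpos : 0 < A.card := Finset.card_pos.mpr ⟨a, Finset.mem_filter.mpr ⟨mem_pTorsion.mpr haZ, ha⟩⟩
  rw [hkkA, ← Nat.cast_succ, mul_eq_zero, ZMod.natCast_eq_zero_iff,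
    ZMod.natCast_eq_zero_iff] at hzero
  rcases hzero with h | h
  · exact absurd (Nat.le_of_dvd hpos h) (by omega)
  · exact absurd (Nat.le_of_dvd (by omega) h) (by omega)

/-- Invariant subgroups contain the elements killed by `p`. -/
theorem InvariantSubgroup.torsion_mem {U : AddSubgroup (ZMod (p ^ (k + 1)))}
    (hU : InvariantSubgroup act U) : ((p ^ k : ℕ) : ZMod (p ^ (k + 1))) ∈ U := by
  obtain ⟨v, hv, hv0⟩ := U.bot_or_exists_ne_zero.resolve_left hU.ne_bot
  have hval : v.val ≠ 0 := fun h => hv0 ((ZMod.val_eq_zero v).mp h)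
  obtain ⟨a, b, hb, hab⟩ := Nat.exists_eq_pow_mul_and_not_dvd hval p hp.out.ne_one
  have hak : a ≤ k := by
    by_contra hak
    have h1 : p ^ (k + 1) ∣ v.val := hab ▸ (pow_dvd_pow p (by omega)).mul_right b
    exact absurd (Nat.le_of_dvd (Nat.pos_of_ne_zero hval) h1) (not_le.mpr (ZMod.val_lt v))
  have hbu : IsUnit ((b : ℕ) : ZMod (p ^ (k + 1))) := by
    rw [ZMod.isUnit_iff_coprime]
    exact ((hp.out.coprime_iff_not_dvd).mpr hb).symm.pow_right _
  obtain ⟨u, hu⟩ := hbu
  have h1 : ((p ^ a : ℕ) : ZMod (p ^ (k + 1))) ∈ U := by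
    have h2 : ((p ^ a : ℕ) : ZMod (p ^ (k + 1))) = ((u⁻¹ : (ZMod (p ^ (k + 1)))ˣ) : ZMod (p ^ (k + 1))).val • v := by
      rw [nsmul_eq_mul, ZMod.natCast_zmod_val]
      conv_rhs => rw [← ZMod.natCast_zmod_val v, hab, Nat.cast_mul, ← hu]
      rw [mul_comm, Units.mul_inv_cancel_right]
    rw [h2]
    exact AddSubgroup.nsmul_mem U hv _
  have h3 : ((p ^ k : ℕ) : ZMod (p ^ (k + 1))) = p ^ (k - a) • ((p ^ a : ℕ) : ZMod (p ^ (k + 1))) := by
    rw [nsmul_eq_mul, ← Nat.cast_mul, ← pow_add, Nat.sub_add_cancel hak]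
  rw [h3]
  exact AddSubgroup.nsmul_mem U h1 _

end Cfsg.Agent.Lib.PowerOrbits
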